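import Cfsg.Agent.H782.CX.Six

/-!
# Step (W6) of the exceptional configuration: the end (helper782, S5267)
-/

set_option autoImplicit false
set_option linter.unusedSectionVars false

namespace Cfsg.Agent.H782.CX

open Subgroup Cfsg.Agent.H467.MaxClass Cfsg.Agent.H786 Cfsg.Agent.H779.Core
open scoped commutatorElement

universe u

variable {P : Type u} [Group P] [Finite P] {p n a t l : ℕ} {W : ℕ → Subgroup P} [hW1 : (W 1).Normal]
  [hp : Fact p.Prime] {A : Subgroup (MulAut (W 1))} {E : Subgroup P} {B H : Subgroup (MulAut E)} {v z : P}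
  {k : MulAut E} {φ : ℕ → P → ZMod p} {δ : ℕ} {g : MulAut (W 1)} {s : ZMod p}

/-- the image of the centre -/
theorem exists_vi (c : CfgX p n W A E B H) (d : XData p n W E B H a t l v z k) :
    ∃ (b : MulAut E) (e : E) (i : ℤ) (w' : P), b ∈ B ∧ (e : P) ∈ W (n - 1) ∧ w' ∈ W (n - 1) ∧
      ((b e : E) : P) = v ^ i * w' ∧ ¬ (p : ℤ) ∣ i := by
  have h1 := d.not_inv
  unfold ZInv at h1
  push Not at h1
  obtain ⟨b, hb, e, he, hbe⟩ := h1
  obtain ⟨i, w', hw', hi⟩ := mem_V0 c (d.V0_inv b hb e ((le_sup_right : W (n - 1) ≤ zpowers v ⊔ W (n - 1)) he))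
  refine ⟨b, e, i, w', hb, he, hw', hi, ?_⟩
  rintro ⟨j, rfl⟩
  apply hbe
  rw [hi, zpow_mul, zpow_natCast, d.v_pow, one_zpow, one_mul]
  exact hw'

theorem vi_not (c : CfgX p n W A E B H) (d : XData p n W E B H a t l v z k) (hφ : Coord p n W φ) {i : ℤ}
    (hi : ¬ (p : ℤ) ∣ i) : v ^ i ∉ W (a + 1) := by
  have h3 := d.three_le_t
  have hat := d.a_add_t
  intro h1
  have h2 : φ a (v ^ i) = 0 := (hφ.zero a (by omega) _ (zpow_mem d.v_mem i)).2 h1
  rw [hφ.zpow (by omega) d.v_mem] at h2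
  have h12 : φ a v ≠ 0 := fun h => d.v_not ((hφ.zero a (by omega) _ d.v_mem).1 h)
  have h13 : ((i : ℤ) : ZMod p) = 0 := (mul_eq_zero.1 h2).resolve_right h12
  rw [ZMod.intCast_zmod_eq_zero_iff_dvd] at h13
  exact hi h13

theorem main_j (c : CfgX p n W A E B H) (d : XData p n W E B H a t l v z k) (hP : PClosed A)
    (h : KD n a l W A H φ δ k g s) {j0 : ℕ} (hj : 1 ≤ j0) (hjn : j0 + 2 ≤ n)
    (hodd : (s ^ (δ + j0)) ^ ((p - 1) / 2) = -1) (hE : ∃ e ∈ E, e ∈ W j0 ∧ e ∉ W (j0 + 1)) : j0 = a := by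
  classical
  have h4 := c.mc.four_le
  have h5 := c.five
  have h3 := d.three_le_t
  have hat := d.a_add_t
  have h1a := d.one_le_a
  have hinnB : inn E ≤ B := (inn_le c).trans c.H_le
  have hPp : IsPGroup p P := IsPGroup.of_card c.mc.card_group
  have hEp : IsPGroup p E := hPp.to_subgroup E
  obtain ⟨R, R', hC, hR, hR'⟩ := exists_chief hEp hinnB (fun R : Subgroup E => ∃ r ∈ R, (r : P) ∈ W j0 ∧ (r : P) ∉ W (j0 + 1))
    (by
      obtain ⟨e, he, h1, h2⟩ := hE
      exact ⟨⟨e, he⟩, Subgroup.mem_top _, h1, h2⟩)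
    (by
      rintro ⟨r, hr, _, h2⟩
      rw [Subgroup.mem_bot] at hr
      exact h2 (by rw [hr]; exact one_mem _))
  push Not at hR'
  have hZsub : ∀ {Q : Subgroup E} {w : E}, w ∈ Q → (w : P) ∈ W (n - 1) → (w : P) ≠ 1 → ∀ y : E, (y : P) ∈ W (n - 1) → y ∈ Q := by
    intro Q w hw hwZ hw1 y hy
    have h1 : W (n - 1) ≤ Q.map E.subtype := Z_le c hwZ hw1 ⟨w, hw, rfl⟩
    obtain ⟨y', hy', hyy⟩ := h1 hy
    have h2 : y' = y := Subtype.ext hyy
    rwa [← h2]
  -- commutators with `z`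
  have hcomm : ∀ {Q : Subgroup E}, Inv B Q → ∀ r ∈ Q, ∃ u ∈ Q, (u : P) = ⁅(r : P), z⁆ := by
    intro Q hQ r hr
    refine ⟨r * (bz c (zN c d) : MulAut E) r⁻¹, mul_mem hr (hQ _ (bz c (zN c d)).2 _ (inv_mem hr)), ?_⟩
    have h1 : ((r * (bz c (zN c d) : MulAut E) r⁻¹ : E) : P) = r * (z * (r : P)⁻¹ * z⁻¹) := rfl
    rw [h1, commutatorElement_def]
    group
  obtain ⟨b, e, i, w', hb, he, hw', hbe, hi⟩ := exists_vi c d
  have hvi := vi_not c d h.coord hi
  by_cases hZ : ∀ r ∈ R, (r : P) ∈ W (n - 1) → r ∈ R'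
  · exfalso
    obtain ⟨⟨r, hr, hra, hra'⟩, hkill⟩ := sec_a c d hP h hC hj hjn hodd hR hR' hZ
    obtain ⟨u, hu, huc⟩ := hcomm hC.inv r hr
    have huZ : (u : P) ∈ W (n - 1) := by rw [huc]; exact rz_mem c d hra
    have hu1 : (u : P) ≠ 1 := by rw [huc]; exact rz_ne c d hra hra'
    have huR' : u ∈ R' := hZ u hu huZ
    have hZR' : ∀ y : E, (y : P) ∈ W (n - 1) → y ∈ R' := hZsub huR' huZ hu1
    have h1 : b e ∈ R' := hC.inv' b hb e (hZR' e he)
    have h2 : (⟨w', Z_le_E c hw'⟩ : E) ∈ R' := hZR' _ hw'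
    have h3' : b e * (⟨w', Z_le_E c hw'⟩ : E)⁻¹ ∈ R' := mul_mem h1 (inv_mem h2)
    have h4' : ((b e * (⟨w', Z_le_E c hw'⟩ : E)⁻¹ : E) : P) = v ^ i := by
      rw [Subgroup.coe_mul, hbe]
      change v ^ i * w' * w'⁻¹ = v ^ i
      group
    apply hvi
    rw [← h4']
    apply hkill _ h3'
    rw [h4']
    exact zpow_mem d.v_mem i
  · push Not at hZ
    obtain ⟨r1, hr1, hr1Z, hr1'⟩ := hZ
    have hr11 : (r1 : P) ≠ 1 := by
      intro h1
      apply hr1'
      have h2 : r1 = 1 := Subtype.ext h1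
      rw [h2]
      exact one_mem _
    have hZR : ∀ y : E, (y : P) ∈ W (n - 1) → y ∈ R := hZsub hr1 hr1Z hr11
    have hZR' : ∀ y : E, y ∈ R' → (y : P) ∈ W (n - 1) → (y : P) = 1 := by
      intro y hy hyZ
      by_contra hcon
      exact hr1' (hZsub hy hyZ hcon r1 hr1Z)
    -- `R' ⊓ W a ≤ W (a + 1)`
    have hstar : ∀ r ∈ R', (r : P) ∈ W a → (r : P) ∈ W (a + 1) := by
      intro r hr hra
      by_contra hcon
      obtain ⟨u, hu, huc⟩ := hcomm hC.inv' r hr
      have h1 := hZR' u hu (by rw [huc]; exact rz_mem c d hra)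
      rw [huc] at h1
      exact rz_ne c d hra hcon h1
    -- `V0 ≤ R`
    have hviR : (b e * (⟨w', Z_le_E c hw'⟩ : E)⁻¹ : E) ∈ R :=
      mul_mem (hC.inv b hb e (hZR e he)) (inv_mem (hZR _ hw'))
    have hviP : ((b e * (⟨w', Z_le_E c hw'⟩ : E)⁻¹ : E) : P) = v ^ i := by
      rw [Subgroup.coe_mul, hbe]
      change v ^ i * w' * w'⁻¹ = v ^ i
      group
    have hvR : (⟨v, d.v_E⟩ : E) ∈ R := by
      have hcop : IsCoprime (p : ℤ) i := (Nat.prime_iff_prime_int.1 hp.out).coprime_iff_not_dvd.2 hi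
      obtain ⟨x, y, hxy⟩ := hcop
      have h1 : (⟨v, d.v_E⟩ : E) = (b e * (⟨w', Z_le_E c hw'⟩ : E)⁻¹ : E) ^ y := by
        apply Subtype.ext
        rw [Subgroup.coe_zpow, hviP, ← zpow_mul]
        change v = v ^ (i * y)
        have h2 : v = v ^ (1 : ℤ) := (zpow_one v).symm
        conv_lhs => rw [h2, ← hxy, zpow_add, mul_comm x, zpow_mul, zpow_natCast, d.v_pow, one_zpow, one_mul, mul_comm y]
      rw [h1]
      exact zpow_mem hviR y
    set V0' : Subgroup E := (zpowers v ⊔ W (n - 1)).subgroupOf E with hV0'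
    have hV0inv : Inv B V0' := fun b hb e he => d.V0_inv b hb e he
    have hV0R : V0' ≤ R := by
      intro w hw
      obtain ⟨i', w'', hw'', hww⟩ := mem_V0 c hw
      have hww' : (w : P) = v ^ i' * w'' := hww
      have h1 : w = (⟨v, d.v_E⟩ : E) ^ i' * ⟨w'', Z_le_E c hw''⟩ := Subtype.ext hww'
      rw [h1]
      exact mul_mem (zpow_mem hvR i') (hZR _ hw'')
    have hRn : R'.Normal := hC.inv'.normal hinnB
    have hY : R' ⊔ V0' = R := by
      refine (hC.max (R' ⊔ V0') (hC.inv'.sup hV0inv) le_sup_left (sup_le hC.le hV0R)).resolve_left ?_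
      intro h1
      apply hr1'
      rw [← h1]
      refine (le_sup_right : V0' ≤ R' ⊔ V0') ?_
      exact (le_sup_right : W (n - 1) ≤ zpowers v ⊔ W (n - 1)) hr1Z
    obtain ⟨r0, hr0R, hr0, hr0'⟩ := hR
    rw [← hY] at hr0R
    obtain ⟨r', hr', w, hw, hrw⟩ := Subgroup.mem_sup_of_normal_left.1 hr0R
    obtain ⟨i', w'', hw'', hww⟩ := mem_V0 c hw
    have hww' : (w : P) = v ^ i' * w'' := hww
    have hwa : (w : P) ∈ W a := by
      rw [hww']
      exact mul_mem (zpow_mem d.v_mem i') (c.mc.antitone (by omega) hw'')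
    have hrP : (r' : P) = (r0 : P) * (w : P)⁻¹ := by rw [← hrw, Subgroup.coe_mul]; group
    -- if `w ∈ W (j0 + 1)` then `r'` has exact index `j0`
    have hfin : (w : P) ∉ W (j0 + 1) := by
      intro h1
      have h2 : (r' : P) ∈ W j0 := by
        rw [hrP]
        exact mul_mem hr0 (inv_mem (c.mc.antitone (by omega) h1))
      have h6 := hR' r' hr' h2
      apply hr0'
      rw [← hrw, Subgroup.coe_mul]
      exact mul_mem h6 h1
    rcases Nat.lt_trichotomy j0 a with h6 | h6 | h6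
    · exact absurd (c.mc.antitone (by omega) hwa) hfin
    · exact h6
    · exfalso
      have h7 : (r0 : P) ∈ W (a + 1) := c.mc.antitone (by omega) hr0
      have h8 : (r' : P) ∈ W a := by
        rw [hrP]
        exact mul_mem (c.mc.antitone (by omega) h7) (inv_mem hwa)
      have h9 := hstar r' hr' h8
      have h10 : (w : P) ∈ W (a + 1) := by
        have h11 : (w : P) = (r' : P)⁻¹ * r0 := by rw [hrP]; group
        rw [h11]
        exact mul_mem (inv_mem h9) h7
      have h11 : v ^ i' ∈ W (a + 1) := by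
        have h12 : v ^ i' = (w : P) * w''⁻¹ := by rw [hww']; group
        rw [h12]
        exact mul_mem h10 (inv_mem (c.mc.antitone (by omega) hw''))
      have h12 : (p : ℤ) ∣ i' := by
        by_contra hcon
        exact vi_not c d h.coord hcon h11
      obtain ⟨j, rfl⟩ := h12
      apply hfin
      rw [hww', zpow_mul, zpow_natCast, d.v_pow, one_zpow, one_mul]
      exact c.mc.antitone (by omega) hw''

/-- **(W6)** -/
theorem w6 (c : CfgX p n W A E B H) (d : XData p n W E B H a t l v z k) (hnab : ¬ ⁅W 1, W 1⁆ ≤ W (n - 1))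
    (hP : PClosed A) : False := by
  classical
  have h4 := c.mc.four_le
  have h5 := c.five
  have h3 := d.three_le_t
  have hat := d.a_add_t
  have h1a := d.one_le_a
  obtain ⟨φ, δ, g, s, h⟩ := exists_KD c d hP hnab
  have hq : p - 1 = 2 * ((p - 1) / 2) := by
    rcases hp.out.eq_two_or_odd with h | h <;> omega
  set q2 := (p - 1) / 2 with hq2
  have h2ne : (1 : ZMod p) ≠ -1 := by
    intro h1
    have h2 : ((2 : ℕ) : ZMod p) = 0 := by
      push_cast
      linear_combination h1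
    rw [ZMod.natCast_eq_zero_iff] at h2
    have := Nat.le_of_dvd (by norm_num) h2
    omega
  have hneg : ∀ y : ZMod p, y ≠ 0 → (∀ m : ℕ, y ^ m = 1 → p - 1 ∣ m) → y ^ q2 = -1 := by
    intro y hy hprim
    have h1 : (y ^ q2 - 1) * (y ^ q2 + 1) = 0 := by
      have h2 : y ^ (2 * q2) = 1 := by rw [← hq]; exact ZMod.pow_card_sub_one_eq_one hy
      have h3 : y ^ q2 * y ^ q2 = 1 := by rw [← pow_add, ← two_mul]; exact h2
      linear_combination h3
    rcases mul_eq_zero.1 h1 with h2 | h2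
    · exfalso
      have h6 := Nat.le_of_dvd (by omega) (hprim q2 (sub_eq_zero.1 h2))
      omega
    · exact eq_neg_of_add_eq_zero_left h2
  have hprim : ∀ m : ℕ, s ^ m = 1 → p - 1 ∣ m := by
    intro m hm
    apply d.l_prim
    rw [← h.hl, ← pow_mul, mul_comm, pow_mul, hm, one_pow]
  have hs := hneg s h.wt.ne hprim
  have hl := hneg l h.l_ne d.l_prim
  have hpar : ∀ m : ℕ, (-1 : ZMod p) ^ m = -1 → Odd m := by
    intro m hm
    rw [← Nat.not_even_iff_odd]
    intro he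
    rw [he.neg_one_pow] at hm
    exact h2ne hm
  have hn : Odd (2 * δ + (n - 1)) := by
    apply hpar
    have h1 : (s ^ (2 * δ + (n - 1))) ^ q2 = (l : ZMod p) ^ q2 := by rw [h.hl]
    rw [hl, ← pow_mul, mul_comm, pow_mul, hs] at h1
    exact h1
  have hda : Odd (δ + a) := by
    apply hpar
    have h1 : ((l : ZMod p) * s ^ (δ + a)) ^ q2 = 1 := by rw [h.ha, one_pow]
    rw [mul_pow] at h1
    rw [hl, ← pow_mul, mul_comm (δ + a), pow_mul, hs] at h1
    linear_combination -h1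
  have hwt : ∀ j : ℕ, Odd (δ + j) → (s ^ (δ + j)) ^ q2 = -1 := by
    intro j hj
    rw [← pow_mul, mul_comm, pow_mul, hs, hj.neg_one_pow]
  have hodd1 : Odd (δ + (t - 2)) := by
    rw [Nat.odd_iff] at hn hda ⊢
    omega
  have hodd2 : Odd (δ + t) := by
    rw [Nat.odd_iff] at hn hda ⊢
    omega
  have e1 : t - 2 = a := main_j c d hP h (by omega) (by omega) (hwt _ hodd1) (by
    obtain ⟨y, hy, hy1, hy2⟩ := d.exists_e
    exact ⟨y, hy, hy1, by rwa [show t - 2 + 1 = t - 1 by omega]⟩)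
  rcases Nat.lt_or_ge n (t + 2) with h6 | h6
  · apply hnab
    have h7 : n = 4 := by omega
    rw [Subgroup.commutator_le]
    intro x hx y hy
    have h8 := c.mc.comm_self hx hy
    rw [h7]
    exact h8
  · have e2 : t = a := main_j c d hP h (by omega) h6 (hwt _ hodd2) (by
      obtain ⟨y, hy, hy'⟩ := c.mc.ne_succ (i := t) (by omega)
      exact ⟨y, d.Wt_le hy, hy, hy'⟩)
    omega

end Cfsg.Agent.H782.CX
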