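import Cfsg.Agent.H786.PureT

/-!
# Weights of fixed vectors (helper782, block (W6) of S5267)

`Tor p H x κ l` : `H = ⟨x⟩⟨κ⟩` strongly embedded, `x` of order `p`, `κ x κ⁻¹ = x ^ (l ^ 2)`, `κ ^ (p - 1) = 1`.
* `Tor.alpha` : the weights of `κ` on the `x`-fixed vectors of a module of `x`-length `D + 1` are `l ^ d`, `d ≤ D`.
-/

set_option autoImplicit false

namespace Cfsg.Agent.H782.CX

open Module Cfsg.Agent.H786

universe u

variable {p : ℕ} [hp : Fact p.Prime] {G : Type*} [Group G]

/-- torus data -/
structure Tor (p : ℕ) {G : Type*} [Group G] (H : Subgroup G) (x κ : G) (l : ℕ) : Prop where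
  five : 5 ≤ p
  ord : orderOf x = p
  xH : x ∈ H
  free : ∀ g, g ∉ H → ∀ u ∈ Subgroup.zpowers x, g⁻¹ * u * g ∈ H → u = 1
  gen : ∀ h ∈ H, ∃ i j : ℕ, h = x ^ i * κ ^ j
  kq : κ ^ (p - 1) = 1
  conj : κ * x * κ⁻¹ = x ^ (l ^ 2)
  prim : ∀ m : ℕ, (l : ZMod p) ^ m = 1 → p - 1 ∣ m

namespace Tor

variable {H : Subgroup G} {x κ : G} {l : ℕ}

theorem l_ne (T : Tor p H x κ l) : (l : ZMod p) ≠ 0 := by
  intro h0
  have h1 := T.five
  -- `0` has no positive power equal to one, but `l ^ (p - 1) = 1` would follow from Fermat for nonzero elements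
  have h2 : κ * x * κ⁻¹ = 1 := by
    rw [T.conj]
    rw [← orderOf_dvd_iff_pow_eq_one, T.ord]
    exact ((ZMod.natCast_eq_zero_iff l p).1 h0).trans (dvd_pow_self l (by norm_num))
  have h3 : x = 1 := by
    have h4 : x = κ⁻¹ * (κ * x * κ⁻¹) * κ := by group
    rw [h4, h2]
    group
  have h5 := T.ord
  rw [h3, orderOf_one] at h5
  omega

theorem l_pow (T : Tor p H x κ l) : (l : ZMod p) ^ (p - 1) = 1 := ZMod.pow_card_sub_one_eq_one T.l_ne

theorem exists_exp (T : Tor p H x κ l) {s : ZMod p} (hs : s ≠ 0) : ∃ e < p - 1, s = (l : ZMod p) ^ e := by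
  set u : (ZMod p)ˣ := Units.mk0 _ T.l_ne with hu
  have hord : orderOf u = p - 1 := by
    apply Nat.dvd_antisymm
    · rw [orderOf_dvd_iff_pow_eq_one]
      ext
      rw [Units.val_pow_eq_pow_val, hu, Units.val_mk0, T.l_pow, Units.val_one]
    · apply T.prim
      have h1 := congrArg Units.val (pow_orderOf_eq_one u)
      rw [Units.val_pow_eq_pow_val, hu, Units.val_mk0, Units.val_one] at h1
      exact h1
  have htop : Subgroup.zpowers u = ⊤ := by
    apply Subgroup.eq_top_of_card_eq
    rw [Nat.card_zpowers, hord, Nat.card_eq_fintype_card, ZMod.card_units_eq_totient, Nat.totient_prime hp.out]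
  have hmem : Units.mk0 s hs ∈ Subgroup.zpowers u := by rw [htop]; exact Subgroup.mem_top _
  obtain ⟨e, he, heq⟩ := (IsOfFinOrder.mem_zpowers_iff_mem_range_orderOf (isOfFinOrder_of_finite u)).1 hmem |>
    Finset.mem_image.1
  refine ⟨e, ?_, ?_⟩
  · rw [← hord]
    exact Finset.mem_range.1 he
  · have h1 := congrArg Units.val heq
    rw [Units.val_pow_eq_pow_val, hu, Units.val_mk0, Units.val_mk0] at h1
    exact h1.symm

theorem pow_inj (T : Tor p H x κ l) {a b : ℕ} (ha : a < p - 1) (hb : b < p - 1)
    (h : (l : ZMod p) ^ a = (l : ZMod p) ^ b) : a = b := by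
  have key : ∀ a b : ℕ, a < p - 1 → b < p - 1 → a ≤ b → (l : ZMod p) ^ a = (l : ZMod p) ^ b → a = b := by
    intro a b ha hb hab h
    obtain ⟨c, rfl⟩ := Nat.exists_eq_add_of_le hab
    rw [pow_add] at h
    have h1 : (l : ZMod p) ^ c = 1 := by
      have h2 : (l : ZMod p) ^ a ≠ 0 := pow_ne_zero _ T.l_ne
      have h3 : (l : ZMod p) ^ a * ((l : ZMod p) ^ c - 1) = 0 := by rw [mul_sub, mul_one, ← h, sub_self]
      exact sub_eq_zero.1 ((mul_eq_zero.1 h3).resolve_left h2)
    have h2 := T.prim c h1
    have h3 : c = 0 := Nat.eq_zero_of_dvd_of_lt h2 (by omega)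
    omega
  rcases le_total a b with hab | hab
  · exact key a b ha hb hab h
  · exact (key b a hb ha hab h.symm).symm

end Tor

section pure

variable {M V : Type u} [AddCommGroup M] [Module (ZMod p) M] [AddCommGroup V] [Module (ZMod p) V]

/-- one copy of `M` and `m` copies of `V` -/
def UU (M V : Type u) (m : ℕ) : Option (Fin m) → Type u
  | none => M
  | some _ => V

instance instUUa (M V : Type u) [AddCommGroup M] [AddCommGroup V] (m : ℕ) :
    ∀ o, AddCommGroup (UU M V m o)
  | none => inferInstanceAs (AddCommGroup M)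
  | some _ => inferInstanceAs (AddCommGroup V)

instance instUUm (p : ℕ) (M V : Type u) [AddCommGroup M] [Module (ZMod p) M] [AddCommGroup V] [Module (ZMod p) V]
    (m : ℕ) : ∀ o, Module (ZMod p) (UU M V m o)
  | none => inferInstanceAs (Module (ZMod p) M)
  | some _ => inferInstanceAs (Module (ZMod p) V)

/-- the representations -/
def uuRep (σ : Representation (ZMod p) G M) (τ : Representation (ZMod p) G V) (m : ℕ) :
    ∀ o, Representation (ZMod p) G (UU M V m o)
  | none => σ
  | some _ => τ

/-- the vectors -/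
def uuVec (y : M) (c : V) (m : ℕ) : ∀ o, UU M V m o
  | none => y
  | some _ => c

/-- the filtrations -/
def uuFil (F : ℕ → Submodule (ZMod p) M) (F' : ℕ → Submodule (ZMod p) V) (m : ℕ) :
    ∀ o, ℕ → Submodule (ZMod p) (UU M V m o)
  | none => F
  | some _ => F'

/-- the ranges -/
def uuD (D D' m : ℕ) : Option (Fin m) → ℕ
  | none => D
  | some _ => D'

/-- the filtration by powers of `x - 1` -/
def rangeFil (σ : Representation (ZMod p) G M) (x : G) (k : ℕ) : Submodule (ZMod p) M :=
  LinearMap.range ((σ x - 1) ^ k)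

theorem rangeFil_anti (σ : Representation (ZMod p) G M) (x : G) : Antitone (rangeFil σ x) := by
  intro a b hab
  rintro _ ⟨w, rfl⟩
  obtain ⟨c, rfl⟩ := Nat.exists_eq_add_of_le hab
  exact ⟨((σ x - 1) ^ c) w, by rw [pow_add, Module.End.mul_apply]⟩

theorem rangeFil_zero (σ : Representation (ZMod p) G M) (x : G) : rangeFil σ x 0 = ⊤ := by
  rw [rangeFil, pow_zero]
  exact LinearMap.range_id

theorem rangeFil_jump (σ : Representation (ZMod p) G M) (x : G) (k : ℕ) {y : M} (hy : y ∈ rangeFil σ x k) :
    σ x y - y ∈ rangeFil σ x (k + 1) := by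
  obtain ⟨w, rfl⟩ := hy
  refine ⟨w, ?_⟩
  rw [pow_succ', Module.End.mul_apply, LinearMap.sub_apply, Module.End.one_apply]

end pure

/-- **Weights of fixed vectors.** -/
theorem Tor.alpha [Finite G] {H : Subgroup G} {x κ : G} {l : ℕ} (T : Tor p H x κ l)
    {V : Type u} [AddCommGroup V] [Module (ZMod p) V] (τ : Representation (ZMod p) G V) {c : V} (hc0 : c ≠ 0)
    (hxc : τ x c = c) (hkc : τ κ c = (l : ZMod p) • c) (hV : ∀ w, ∃ t : ZMod p, τ x w - w = t • c)
    (hni : ∃ g, ∀ t : ZMod p, τ g c ≠ t • c)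
    {M : Type u} [AddCommGroup M] [Module (ZMod p) M] (σ : Representation (ZMod p) G M) {D : ℕ}
    (hD : (σ x - 1) ^ (D + 1) = 0) {y : M} (hy : y ≠ 0) (hxy : σ x y = y) {s : ZMod p} (hs : σ κ y = s • y) :
    ∃ d ≤ D, s = (l : ZMod p) ^ d := by
  classical
  have hs0 : s ≠ 0 := by
    rintro rfl
    rw [zero_smul] at hs
    apply hy
    have h1 := congrArg (σ κ⁻¹) hs
    rwa [map_zero, ← Module.End.mul_apply, ← map_mul, inv_mul_cancel, map_one, Module.End.one_apply] at h1
  obtain ⟨e, he, hse⟩ := T.exists_exp hs0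
  refine ⟨e, ?_, hse⟩
  by_contra hcon
  push Not at hcon
  have h5 := T.five
  set m := p - 1 - e with hm
  have hm0 : 0 < m := by omega
  -- filtration data
  have hFc : (τ x - 1) ^ (1 + 1) = 0 := by
    refine LinearMap.ext fun w => ?_
    obtain ⟨t, ht⟩ := hV w
    rw [pow_succ, pow_one, Module.End.mul_apply]
    have h1 : (τ x - 1) w = t • c := by rw [LinearMap.sub_apply, Module.End.one_apply]; exact ht
    rw [h1, map_smul, LinearMap.sub_apply, Module.End.one_apply, hxc, sub_self, smul_zero, LinearMap.zero_apply]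
  have hfil : FilData (uuFil (rangeFil σ x) (rangeFil τ x) m) (uuD D 1 m) := by
    refine ⟨?_, ?_, ?_⟩
    · rintro (_ | i)
      · exact rangeFil_anti σ x
      · exact rangeFil_anti τ x
    · rintro (_ | i)
      · exact rangeFil_zero σ x
      · exact rangeFil_zero τ x
    · rintro (_ | i)
      · change rangeFil σ x (D + 1) = ⊥
        rw [rangeFil, hD]
        exact LinearMap.range_zero
      · change rangeFil τ x (1 + 1) = ⊥
        rw [rangeFil, hFc]
        exact LinearMap.range_zero
  have hj1 : JumpAll (uuRep σ τ m) (uuFil (rangeFil σ x) (rangeFil τ x) m) x 1 := by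
    rintro (_ | i) k w hw
    · exact rangeFil_jump σ x k hw
    · exact rangeFil_jump τ x k hw
  have hj0 : JumpAll (uuRep σ τ m) (uuFil (rangeFil σ x) (rangeFil τ x) m) x 0 := by
    intro i k w hw
    exact hfil.anti i (by omega) (hj1 i k w hw)
  have hjall : ∀ u ∈ Subgroup.zpowers x,
      JumpAll (uuRep σ τ m) (uuFil (rangeFil σ x) (rangeFil τ x) m) u 0 := by
    intro u hu
    obtain ⟨j, _, rfl⟩ := (IsOfFinOrder.mem_zpowers_iff_mem_range_orderOf (isOfFinOrder_of_finite x)).1 hu |>
      Finset.mem_image.1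
    induction j with
    | zero => rw [pow_zero]; exact JumpAll.one
    | succ j ih =>
      rw [pow_succ]
      refine JumpAll.mul hfil.anti ?_ hj0
      have key : ∀ j : ℕ, JumpAll (uuRep σ τ m) (uuFil (rangeFil σ x) (rangeFil τ x) m) (x ^ j) 0 := by
        intro j
        induction j with
        | zero => rw [pow_zero]; exact JumpAll.one
        | succ j ih => rw [pow_succ]; exact JumpAll.mul hfil.anti ih hj0
      exact key j
  have hchain : NChain p (JumpAll (uuRep σ τ m) (uuFil (rangeFil σ x) (rangeFil τ x) m))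
      (Subgroup.zpowers x) (0 + 1) := by
    refine NChain.step NChain.bot bot_le (Subgroup.mem_zpowers x) ?_ ?_ ?_ hj1
    · rw [Subgroup.mem_bot]
      intro h1
      have h2 := T.ord
      rw [h1, orderOf_one] at h2
      omega
    · intro k hk
      rw [Subgroup.mem_bot] at hk ⊢
      rw [hk]
      group
    · rw [Subgroup.relIndex_bot_left, Nat.card_zpowers, T.ord]
  obtain ⟨g, hg⟩ := hni
  have hfin := pureT (uuRep σ τ m) hfil (H := H) (Q := Subgroup.zpowers x)
    (by rw [Subgroup.zpowers_le]; exact T.xH) T.free hchain hjall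
    (by
      rw [Fintype.sum_option]
      change D + ∑ i : Fin m, 1 < (p - 1) * (0 + 1)
      rw [Finset.sum_const, Finset.card_univ, Fintype.card_fin, smul_eq_mul]
      omega)
    (uuVec y c m)
    (by
      rintro (_ | i)
      · exact hy
      · exact hc0)
    (by
      intro h hh
      obtain ⟨i, j, rfl⟩ := T.gen h hh
      have hx1 : ∀ (i : ℕ), σ (x ^ i) y = y := by
        intro i
        induction i with
        | zero => rw [pow_zero, map_one, Module.End.one_apply]
        | succ i ih => rw [pow_succ, map_mul, Module.End.mul_apply, hxy, ih]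
      have hx2 : ∀ (i : ℕ), τ (x ^ i) c = c := by
        intro i
        induction i with
        | zero => rw [pow_zero, map_one, Module.End.one_apply]
        | succ i ih => rw [pow_succ, map_mul, Module.End.mul_apply, hxc, ih]
      have hk1 : ∀ (j : ℕ), σ (κ ^ j) y = (s ^ j) • y := by
        intro j
        induction j with
        | zero => rw [pow_zero, map_one, Module.End.one_apply, pow_zero, one_smul]
        | succ j ih => rw [pow_succ, map_mul, Module.End.mul_apply, hs, map_smul, ih, smul_smul, pow_succ']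
      have hk2 : ∀ (j : ℕ), τ (κ ^ j) c = ((l : ZMod p) ^ j) • c := by
        intro j
        induction j with
        | zero => rw [pow_zero, map_one, Module.End.one_apply, pow_zero, one_smul]
        | succ j ih => rw [pow_succ, map_mul, Module.End.mul_apply, hkc, map_smul, ih, smul_smul, pow_succ']
      refine ⟨fun o => match o with
        | none => s ^ j
        | some _ => (l : ZMod p) ^ j, ?_, ?_⟩
      · rintro (_ | o)
        · change σ (x ^ i * κ ^ j) y = (s ^ j) • y
          rw [map_mul, Module.End.mul_apply, hk1, map_smul, hx1]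
        · change τ (x ^ i * κ ^ j) c = ((l : ZMod p) ^ j) • c
          rw [map_mul, Module.End.mul_apply, hk2, map_smul, hx2]
      · rw [Fintype.prod_option]
        change s ^ j * ∏ _o : Fin m, (l : ZMod p) ^ j = 1
        rw [Finset.prod_const, Finset.card_univ, Fintype.card_fin, hse, ← pow_mul, ← pow_mul, ← pow_add]
        rw [show e * j + j * m = (p - 1) * j by rw [hm, mul_comm j, ← add_mul]; congr 1; omega, pow_mul, T.l_pow,
          one_pow])
    g (some ⟨0, hm0⟩)
  obtain ⟨t, ht⟩ := hfin
  exact hg t ht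

end Cfsg.Agent.H782.CX
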