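import Cfsg.Agent.H782.CX.Alpha

/-!
# Odd weights (helper782, block (W6) of S5267)

`Tor.gamma` : a module of length at most `(p - 1) / 2` with an odd weight has the weight `l⁻¹`.
-/

set_option autoImplicit false

namespace Cfsg.Agent.H782.CX

open Module Cfsg.Agent.H786 Polynomial

universe u

variable {p : ℕ} [hp : Fact p.Prime] {G : Type*} [Group G]

section ops

theorem poly_one (r : ℕ) : ∃ g : (ZMod p)[X], (1 + X) ^ r - 1 = X * (C (r : ZMod p) + X * g) := by
  induction r with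
  | zero => exact ⟨0, by simp⟩
  | succ r ih =>
    obtain ⟨g, hg⟩ := ih
    refine ⟨g + C (r : ZMod p) + X * g, ?_⟩
    have h1 : (1 + X : (ZMod p)[X]) ^ r = 1 + X * (C (r : ZMod p) + X * g) := by rw [← hg]; ring
    rw [pow_succ, h1]
    push_cast
    rw [C_add, C_1]
    ring

theorem poly_pow (r k : ℕ) : ∃ h : (ZMod p)[X], ((1 + X) ^ r - 1) ^ k = X ^ k * (C ((r : ZMod p) ^ k) + X * h) := by
  obtain ⟨g, hg⟩ := poly_one (p := p) r
  rw [hg]
  induction k with
  | zero => exact ⟨0, by simp⟩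
  | succ k ih =>
    obtain ⟨h, hh⟩ := ih
    refine ⟨C ((r : ZMod p) ^ k) * g + h * C (r : ZMod p) + X * g * h, ?_⟩
    rw [pow_succ, hh, pow_succ (r : ZMod p), C_mul]
    ring

variable {M : Type u} [AddCommGroup M] [Module (ZMod p) M] (σ : Representation (ZMod p) G M)

/-- conjugating a polynomial in `x - 1` -/
theorem conj_aeval {x g : G} {r : ℕ} (h : g * x * g⁻¹ = x ^ r) (f : (ZMod p)[X]) (y : M) :
    σ g (aeval (σ x - 1) f y) = aeval (σ x - 1) (f.comp ((1 + X) ^ r - 1)) (σ g y) := by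
  have h1 : SemiconjBy (σ g) (σ x - 1) (σ x ^ r - 1) := by
    change σ g * (σ x - 1) = (σ x ^ r - 1) * σ g
    rw [mul_sub, sub_mul, mul_one, one_mul, ← map_pow, ← h, ← map_mul, ← map_mul, inv_mul_cancel_right]
  set δ := σ x - 1 with hδ
  have hx : 1 + δ = σ x := by rw [hδ]; abel
  have h2 : aeval δ ((1 + X : (ZMod p)[X]) ^ r - 1) = σ x ^ r - 1 := by
    simp only [map_pow, map_sub, map_add, map_one, aeval_X, hx]
  rw [aeval_comp, h2]
  have h3 : ∀ f : (ZMod p)[X], SemiconjBy (σ g) (aeval δ f) (aeval (σ x ^ r - 1) f) := by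
    intro f
    induction f using Polynomial.induction_on' with
    | add p q hp hq => rw [map_add, map_add]; exact hp.add_right hq
    | monomial n a =>
      rw [← C_mul_X_pow_eq_monomial, map_mul, map_mul, aeval_C, aeval_C, map_pow, map_pow, aeval_X, aeval_X]
      have h0 : SemiconjBy (σ g) (algebraMap (ZMod p) (End (ZMod p) M) a) (algebraMap (ZMod p) (End (ZMod p) M) a) :=
        (Algebra.commutes a (σ g)).symm
      exact h0.mul_right (h1.pow_right n)
  have h4 := LinearMap.congr_fun (h3 f) y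
  exact h4

theorem commute_aeval (δ : End (ZMod p) M) (f g : (ZMod p)[X]) (y : M) :
    aeval δ f (aeval δ g y) = aeval δ g (aeval δ f y) := by
  rw [← Module.End.mul_apply, ← map_mul, mul_comm, map_mul, Module.End.mul_apply]

/-- commuting `x - 1` past an element normalizing `⟨x⟩` -/
theorem exists_comm_pow {x g : G} {r : ℕ} (h : g * x * g⁻¹ = x ^ r) (y : M) :
    ∃ y', σ g ((σ x - 1) y) = (σ x - 1) y' := by
  obtain ⟨f, hf⟩ := poly_one (p := p) r
  have h1 := conj_aeval σ h X y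
  rw [X_comp, hf, aeval_X, map_mul, aeval_X, Module.End.mul_apply] at h1
  exact ⟨_, h1⟩

end ops

/-- **Odd weights.** -/
theorem Tor.gamma [Finite G] {H : Subgroup G} {x κ : G} {l : ℕ} (T : Tor p H x κ l)
    {V : Type u} [AddCommGroup V] [Module (ZMod p) V] (τ : Representation (ZMod p) G V) {c : V} (hc0 : c ≠ 0)
    (hxc : τ x c = c) (hkc : τ κ c = (l : ZMod p) • c) (hV : ∀ w, ∃ t : ZMod p, τ x w - w = t • c)
    (hni : ∃ g, ∀ t : ZMod p, τ g c ≠ t • c)
    {M : Type u} [AddCommGroup M] [Module (ZMod p) M] [FiniteDimensional (ZMod p) M]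
    (σ : Representation (ZMod p) G M) {D : ℕ} (hD : (σ x - 1) ^ (D + 1) = 0) (hD2 : 2 * D < p - 1) {y₀ : M}
    (hy₀ : y₀ ≠ 0) (hι : σ (κ ^ ((p - 1) / 2)) y₀ = - y₀) : ∃ y : M, y ≠ 0 ∧ (l : ZMod p) • σ κ y = y := by
  classical
  have h5 := T.five
  have hl := T.l_ne
  have hq : p - 1 = 2 * ((p - 1) / 2) := by
    rcases hp.out.eq_two_or_odd with h | h <;> omega
  set q2 := (p - 1) / 2 with hq2
  set ι := κ ^ q2 with hιdef
  have h2ne : (2 : ZMod p) ≠ 0 := by
    intro h1
    have h2 : ((2 : ℕ) : ZMod p) = 0 := by exact_mod_cast h1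
    rw [ZMod.natCast_eq_zero_iff] at h2
    have := Nat.le_of_dvd (by norm_num) h2
    omega
  have hmul : ∀ g g' y, σ (g * g') y = σ g (σ g' y) := fun g g' y => by rw [map_mul, Module.End.mul_apply]
  have hone : ∀ y, σ 1 y = y := fun y => by rw [map_one, Module.End.one_apply]
  have hιι : ι * ι = 1 := by rw [hιdef, ← pow_add, ← two_mul, ← hq, T.kq]
  have hconj : ∀ j : ℕ, κ ^ j * x * (κ ^ j)⁻¹ = x ^ (l ^ (2 * j)) := by
    intro j
    induction j with
    | zero => simp
    | succ j ih =>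
      rw [pow_succ', mul_inv_rev, show κ * κ ^ j * x * ((κ ^ j)⁻¹ * κ⁻¹) = κ * (κ ^ j * x * (κ ^ j)⁻¹) * κ⁻¹ by group,
        ih, ← conj_pow, T.conj, ← pow_mul, ← pow_add, show 2 + 2 * j = 2 * (j + 1) by ring]
  have hlq : x ^ (l ^ (2 * q2)) = x := by
    have h1 : l ^ (2 * q2) ≡ 1 [MOD p] := by
      rw [← ZMod.natCast_eq_natCast_iff, Nat.cast_pow, ← hq, T.l_pow, Nat.cast_one]
    have h2 : x ^ (l ^ (2 * q2)) = x ^ 1 := by
      rw [pow_eq_pow_iff_modEq, T.ord]
      exact h1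
    rw [h2, pow_one]
  have hιx : ι * x = x * ι := by
    have h1 := hconj q2
    rw [hlq, ← hιdef] at h1
    calc ι * x = (ι * x * ι⁻¹) * ι := by group
      _ = x * ι := by rw [h1]
  set δ := σ x - 1 with hδ
  have hδa : ∀ y, δ y = σ x y - y := fun y => by rw [hδ, LinearMap.sub_apply, Module.End.one_apply]
  have hιδ : ∀ y, σ ι (δ y) = δ (σ ι y) := by
    intro y
    rw [hδa, hδa, map_sub, ← hmul, ← hmul, hιx]
  -- step A
  obtain ⟨y₁, hy₁, hy₁'⟩ : ∃ y₁, σ ι y₁ = - y₁ ∧ y₁ ∉ LinearMap.range δ := by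
    by_contra hcon
    push Not at hcon
    have key : ∀ k : ℕ, ∀ y, σ ι y = - y → ∃ w, σ ι w = - w ∧ y = (δ ^ k) w := by
      intro k
      induction k with
      | zero => intro y hy; exact ⟨y, hy, rfl⟩
      | succ k ih =>
        intro y hy
        obtain ⟨w, hw, hyw⟩ := ih y hy
        obtain ⟨w', hw'⟩ := hcon w hw
        refine ⟨(2 : ZMod p)⁻¹ • (w' - σ ι w'), ?_, ?_⟩
        · rw [map_smul, map_sub, ← hmul, hιι, hone, ← smul_neg, neg_sub]
        · rw [hyw, pow_succ, Module.End.mul_apply, map_smul, map_sub, ← hιδ, hw', hw, sub_neg_eq_add, ← two_smul (ZMod p) w,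
            smul_smul, inv_mul_cancel₀ h2ne, one_smul]
    obtain ⟨w, _, hw⟩ := key (D + 1) y₀ hι
    rw [hD, LinearMap.zero_apply] at hw
    exact hy₀ hw
  -- step B
  let π : ℕ → End (ZMod p) M := fun e => ∑ j ∈ Finset.range (p - 1), ((l : ZMod p) ^ (e * j))⁻¹ • σ (κ ^ j)
  have hπ : ∀ e y, π e y = ∑ j ∈ Finset.range (p - 1), ((l : ZMod p) ^ (e * j))⁻¹ • σ (κ ^ j) y := by
    intro e y
    simp only [π, LinearMap.sum_apply, LinearMap.smul_apply]
  have hπκ : ∀ e y, σ κ (π e y) = (l : ZMod p) ^ e • π e y := by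
    intro e y
    have h1 : ∀ j : ℕ, σ κ (((l : ZMod p) ^ (e * j))⁻¹ • σ (κ ^ j) y) =
        (l : ZMod p) ^ e • (((l : ZMod p) ^ (e * (j + 1)))⁻¹ • σ (κ ^ (j + 1)) y) := by
      intro j
      rw [map_smul, ← hmul, ← pow_succ', smul_smul]
      congr 1
      rw [mul_add, mul_one, pow_add]
      field_simp
    rw [hπ, map_sum, Finset.sum_congr rfl (fun j _ => h1 j), ← Finset.smul_sum]
    congr 1
    have h2 := Finset.sum_range_succ (fun j => ((l : ZMod p) ^ (e * j))⁻¹ • σ (κ ^ j) y) (p - 1)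
    rw [Finset.sum_range_succ'] at h2
    have h3 : ((l : ZMod p) ^ (e * (p - 1)))⁻¹ • σ (κ ^ (p - 1)) y = ((l : ZMod p) ^ (e * 0))⁻¹ • σ (κ ^ 0) y := by
      rw [T.kq, mul_comm, pow_mul, T.l_pow, one_pow, mul_zero, pow_zero, pow_zero]
    rw [h3] at h2
    exact add_right_cancel h2
  have hπκ' : ∀ e y, π e (σ κ y) = (l : ZMod p) ^ e • π e y := by
    intro e y
    rw [← hπκ, hπ, hπ, map_sum]
    refine Finset.sum_congr rfl fun j _ => ?_
    rw [map_smul, ← hmul, ← hmul, ← pow_succ, ← pow_succ']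
  have hπsum : ∀ y, ∑ e ∈ Finset.range (p - 1), π e y = - y := by
    intro y
    simp_rw [hπ]
    rw [Finset.sum_comm]
    have h1 : ∀ j ∈ Finset.range (p - 1), ∑ e ∈ Finset.range (p - 1), ((l : ZMod p) ^ (e * j))⁻¹ • σ (κ ^ j) y =
        if j = 0 then - y else 0 := by
      intro j hj
      rw [← Finset.sum_smul]
      have h2 : ∀ e : ℕ, ((l : ZMod p) ^ (e * j))⁻¹ = (((l : ZMod p) ^ j)⁻¹) ^ e := by
        intro e
        rw [inv_pow, ← pow_mul, mul_comm]
      simp_rw [h2]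
      split_ifs with hj0
      · subst hj0
        rw [pow_zero, inv_one]
        simp only [one_pow, Finset.sum_const, Finset.card_range, nsmul_eq_mul, mul_one, map_one, pow_zero]
        rw [Module.End.one_apply, Nat.cast_sub hp.out.one_le, CharP.cast_eq_zero, Nat.cast_one, zero_sub, neg_smul,
          one_smul]
      · have h3 : ((l : ZMod p) ^ j)⁻¹ ≠ 1 := by
          intro h
          rw [inv_eq_one] at h
          have h4 := T.prim j h
          exact hj0 (Nat.eq_zero_of_dvd_of_lt h4 (Finset.mem_range.1 hj))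
        have h4 : ∑ e ∈ Finset.range (p - 1), (((l : ZMod p) ^ j)⁻¹) ^ e = 0 := by
          have h6 := geom_sum_mul (((l : ZMod p) ^ j)⁻¹) (p - 1)
          rw [inv_pow, ← pow_mul, mul_comm j, pow_mul, T.l_pow, one_pow, inv_one, sub_self] at h6
          exact (mul_eq_zero.1 h6).resolve_right (sub_ne_zero.2 h3)
        rw [h4, zero_smul]
    rw [Finset.sum_congr rfl h1, Finset.sum_ite_eq' (Finset.range (p - 1)) 0, if_pos (Finset.mem_range.2 (by omega))]
  have hπι : ∀ e y, σ ι (π e y) = π e (σ ι y) := by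
    intro e y
    rw [hπ, hπ, map_sum]
    refine Finset.sum_congr rfl fun j _ => ?_
    rw [map_smul, ← hmul, ← hmul, hιdef, ← pow_add, ← pow_add, add_comm]
  obtain ⟨e, he⟩ : ∃ e, π e y₁ ∉ LinearMap.range δ := by
    by_contra hcon
    push Not at hcon
    apply hy₁'
    have h1 : ∑ e ∈ Finset.range (p - 1), π e y₁ ∈ LinearMap.range δ := Submodule.sum_mem _ fun e _ => hcon e
    rw [hπsum] at h1
    exact neg_mem_iff.1 h1
  set y := π e y₁ with hydef
  have hκy : σ κ y = (l : ZMod p) ^ e • y := hπκ e y₁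
  have hιy : σ ι y = - y := by rw [hydef, hπι, hy₁, map_neg]
  have hy0 : y ≠ 0 := by
    intro h
    apply he
    rw [h]
    exact zero_mem _
  -- step C
  have hπδ : ∀ e w, π e (δ w) ∈ LinearMap.range δ := by
    intro e w
    rw [hπ]
    refine Submodule.sum_mem _ fun j _ => Submodule.smul_mem _ _ ?_
    obtain ⟨y', hy'⟩ := exists_comm_pow σ (hconj j) w
    exact ⟨y', hy'.symm⟩
  obtain ⟨f₀, hf₀, hf₀'⟩ := Submodule.exists_dual_map_eq_bot_of_notMem he inferInstance
  have hf₀δ : ∀ w, f₀ (δ w) = 0 := by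
    intro w
    have h1 : f₀ (δ w) ∈ (LinearMap.range δ).map f₀ := ⟨δ w, ⟨w, rfl⟩, rfl⟩
    rw [hf₀', Submodule.mem_bot] at h1
    exact h1
  have hf₀r : ∀ w ∈ LinearMap.range δ, f₀ w = 0 := by
    rintro _ ⟨w, rfl⟩
    exact hf₀δ w
  let f : Dual (ZMod p) M := f₀ ∘ₗ π e
  have hf : ∀ w, f w = f₀ (π e w) := fun w => rfl
  have hfκ : ∀ w, f (σ κ w) = (l : ZMod p) ^ e * f w := by
    intro w
    rw [hf, hf, hπκ', map_smul, smul_eq_mul]
  have hfδ : ∀ w, f (σ x w) = f w := by
    intro w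
    have h1 : f (δ w) = 0 := by rw [hf]; exact hf₀r _ (hπδ e w)
    rw [hδa, map_sub] at h1
    exact sub_eq_zero.1 h1
  have hfy : f y ≠ 0 := by
    have h1 : π e y = - y := by
      have h2 : ∀ j : ℕ, σ (κ ^ j) y = (l : ZMod p) ^ (e * j) • y := by
        intro j
        induction j with
        | zero => rw [pow_zero, hone, mul_zero, pow_zero, one_smul]
        | succ j ih => rw [pow_succ, hmul, hκy, map_smul, ih, smul_smul, ← pow_add, show e + e * j = e * (j + 1) by ring]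
      rw [hπ, Finset.sum_congr rfl (fun j _ => by
        rw [h2 j, smul_smul, inv_mul_cancel₀ (pow_ne_zero _ hl), one_smul]), Finset.sum_const, Finset.card_range,
        ← Nat.cast_smul_eq_nsmul (ZMod p), Nat.cast_sub hp.out.one_le, CharP.cast_eq_zero, Nat.cast_one, zero_sub,
        neg_smul, one_smul]
    rw [hf, h1, map_neg]
    exact neg_ne_zero.2 hf₀
  have hDdual : (σ.dual x - 1) ^ (D + 1) = 0 := by
    have h1 : ∀ (k : ℕ) (f : Dual (ZMod p) M) y, (((σ.dual x - 1) ^ k) f) y = f (((σ x⁻¹ - 1) ^ k) y) := by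
      intro k
      induction k with
      | zero => intro f y; rfl
      | succ k ih =>
        intro f y
        rw [pow_succ, Module.End.mul_apply, ih, pow_succ', Module.End.mul_apply]
        rw [LinearMap.sub_apply, Module.End.one_apply, LinearMap.sub_apply, LinearMap.sub_apply,
          Module.End.one_apply, map_sub]
        rfl
    have h3 : σ x⁻¹ - 1 = δ * (- σ x⁻¹) := by
      rw [hδ, sub_mul, one_mul, mul_neg, ← map_mul, mul_inv_cancel, map_one]
      abel
    have h4 : Commute δ (- σ x⁻¹) := by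
      refine Commute.neg_right (Commute.sub_left ?_ (Commute.one_left _))
      change σ x * σ x⁻¹ = σ x⁻¹ * σ x
      rw [← map_mul, ← map_mul, mul_inv_cancel, inv_mul_cancel]
    refine LinearMap.ext fun f => LinearMap.ext fun y => ?_
    rw [h1, h3, h4.mul_pow, hD, zero_mul, LinearMap.zero_apply, LinearMap.zero_apply, map_zero, LinearMap.zero_apply]
  obtain ⟨d, hdD, hd⟩ := T.alpha τ hc0 hxc hkc hV hni σ.dual hDdual (y := f) (s := ((l : ZMod p) ^ e)⁻¹)
    (fun h => hfy (by rw [h, LinearMap.zero_apply]))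
    (by
      refine LinearMap.ext fun w => ?_
      change f (σ x⁻¹ w) = f w
      conv_rhs => rw [← hone w, ← mul_inv_cancel x, hmul, hfδ])
    (by
      refine LinearMap.ext fun w => ?_
      change f (σ κ⁻¹ w) = ((l : ZMod p) ^ e)⁻¹ * f w
      have h1 := hfκ (σ κ⁻¹ w)
      rw [← hmul, mul_inv_cancel, hone] at h1
      rw [h1, ← mul_assoc, inv_mul_cancel₀ (pow_ne_zero _ hl), one_mul])
  have hed : (l : ZMod p) ^ e * (l : ZMod p) ^ d = 1 := by rw [← hd, mul_inv_cancel₀ (pow_ne_zero _ hl)]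
  -- step D
  have hdodd : Odd d := by
    rw [← Nat.not_even_iff_odd]
    rintro ⟨d', hd'⟩
    have h1 : ((l : ZMod p) ^ e) ^ q2 = -1 := by
      have h2 : ∀ j : ℕ, σ (κ ^ j) y = ((l : ZMod p) ^ e) ^ j • y := by
        intro j
        induction j with
        | zero => rw [pow_zero, hone, pow_zero, one_smul]
        | succ j ih => rw [pow_succ, hmul, hκy, map_smul, ih, smul_smul, ← pow_succ']
      have h3 := h2 q2
      rw [← hιdef, hιy] at h3
      have h4 : (((l : ZMod p) ^ e) ^ q2 + 1) • y = 0 := by rw [add_smul, ← h3, one_smul, neg_add_cancel]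
      exact eq_neg_of_add_eq_zero_left ((smul_eq_zero.1 h4).resolve_right hy0)
    have h2 : ((l : ZMod p) ^ d) ^ q2 = 1 := by
      rw [hd', ← pow_mul, show (d' + d') * q2 = (2 * q2) * d' by ring, pow_mul, ← hq, T.l_pow, one_pow]
    have h3 := congrArg (fun z => z ^ q2) hed
    simp only [mul_pow, one_pow] at h3
    rw [h1, h2, mul_one] at h3
    apply h2ne
    linear_combination -h3
  -- step E
  have hex : ∃ k : ℕ, (δ ^ k) y = 0 := ⟨D + 1, by rw [hD, LinearMap.zero_apply]⟩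
  set k := Nat.find hex with hk
  have hk0 : (δ ^ k) y = 0 := Nat.find_spec hex
  have hkD : k ≤ D + 1 := Nat.find_min' hex (by rw [hD, LinearMap.zero_apply])
  have hk1 : 1 ≤ k := by
    by_contra hcon
    have h1 : k = 0 := by omega
    rw [h1, pow_zero, Module.End.one_apply] at hk0
    exact hy0 hk0
  have hkm : (δ ^ (k - 1)) y ≠ 0 := Nat.find_min hex (by omega)
  set e' := k - 1 with he'
  have hke : k = e' + 1 := by omega
  obtain ⟨P, hP⟩ := poly_pow (p := p) (l ^ 2) e'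
  have hX : ∀ i : ℕ, aeval δ ((X : (ZMod p)[X]) ^ i) = δ ^ i := fun i => by rw [map_pow, aeval_X]
  obtain ⟨d', hd'D, hd'⟩ := T.alpha τ hc0 hxc hkc hV hni σ hD (y := (δ ^ e') y)
    (s := (l : ZMod p) ^ e * (l : ZMod p) ^ (2 * e')) hkm
    (by
      have h1 : δ ((δ ^ e') y) = 0 := by rw [← Module.End.mul_apply, ← pow_succ', ← hke, hk0]
      rw [hδa] at h1
      exact sub_eq_zero.1 h1)
    (by
      have h1 := conj_aeval σ T.conj (X ^ e') y
      rw [← hδ, hX, X_pow_comp, hP, hκy, map_smul] at h1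
      rw [h1, mul_smul]
      congr 1
      rw [map_mul, hX, map_add, aeval_C, mul_add, LinearMap.add_apply]
      have h2 : (δ ^ e' * aeval δ (X * P)) y = 0 := by
        rw [← hX, ← map_mul, show (X : (ZMod p)[X]) ^ e' * (X * P) = P * X ^ k by rw [hke]; ring, map_mul, hX,
          Module.End.mul_apply, hk0, map_zero]
      rw [h2, add_zero, Module.End.mul_apply, Algebra.algebraMap_eq_smul_one, LinearMap.smul_apply,
        Module.End.one_apply, map_smul]
      congr 1
      push_cast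
      rw [← pow_mul])
  have h2e : 2 * e' = d + d' := by
    apply T.pow_inj (by omega) (by omega)
    calc (l : ZMod p) ^ (2 * e') = ((l : ZMod p) ^ e * (l : ZMod p) ^ d) * (l : ZMod p) ^ (2 * e') := by
          rw [hed, one_mul]
      _ = ((l : ZMod p) ^ e * (l : ZMod p) ^ (2 * e')) * (l : ZMod p) ^ d := by ring
      _ = (l : ZMod p) ^ (d + d') := by rw [hd', pow_add, mul_comm]
  -- step F
  obtain ⟨j, hj⟩ := hdodd
  have hje : j < e' := by omega
  let L : ℕ → Submodule (ZMod p) M := fun i =>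
    { carrier := {u | ∃ g : (ZMod p)[X], u = aeval δ (X ^ i * g) y}
      add_mem' := by
        rintro _ _ ⟨g, rfl⟩ ⟨g', rfl⟩
        exact ⟨g + g', by rw [mul_add, map_add, LinearMap.add_apply]⟩
      zero_mem' := ⟨0, by rw [mul_zero, map_zero, LinearMap.zero_apply]⟩
      smul_mem' := by
        rintro t _ ⟨g, rfl⟩
        exact ⟨t • g, by rw [mul_smul_comm, map_smul, LinearMap.smul_apply]⟩ }
  have hLle : L (j + 1) ≤ L j := by
    rintro _ ⟨g, rfl⟩
    exact ⟨X * g, by rw [pow_succ, mul_assoc]⟩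
  have hLlt : L (j + 1) < L j := by
    refine lt_of_le_of_ne hLle fun heq => ?_
    have h1 : (δ ^ j) y ∈ L j := ⟨1, by rw [mul_one, hX]⟩
    rw [← heq] at h1
    obtain ⟨g, hg⟩ := h1
    apply hkm
    obtain ⟨b, hb⟩ := Nat.exists_eq_add_of_lt hje
    have h2 : (δ ^ e') y = (δ ^ (b + 1)) ((δ ^ j) y) := by
      have h3 : (δ ^ (b + 1)) ((δ ^ j) y) = (δ ^ (b + 1) * δ ^ j) y := rfl
      rw [h3, ← pow_add]
      congr 2
      omega
    have h3 : ∀ F F' : (ZMod p)[X], aeval δ F (aeval δ F' y) = aeval δ (F * F') y := fun F F' => by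
      rw [map_mul]
      rfl
    rw [h2, hg, ← hX, h3,
      show (X : (ZMod p)[X]) ^ (b + 1) * (X ^ (j + 1) * g) = g * X ^ k by rw [hke, hb]; ring, map_mul, hX,
      Module.End.mul_apply, hk0, map_zero]
  have hmaps : ∀ u ∈ L j, σ κ u - ((l : ZMod p))⁻¹ • u ∈ L (j + 1) := by
    rintro _ ⟨g, rfl⟩
    have h1 := conj_aeval σ T.conj (X ^ j * g) y
    rw [← hδ, hκy, map_smul] at h1
    obtain ⟨P1, hP1⟩ := poly_one (p := p) (l ^ 2)
    have h2 : (X : (ZMod p)[X]) ^ (j + 1) ∣ (C ((l : ZMod p) ^ e)) * (X ^ j * g).comp ((1 + X) ^ (l ^ 2) - 1) -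
        C ((l : ZMod p)⁻¹) * (X ^ j * g) := by
      rw [mul_comp, X_pow_comp, hP1, mul_pow]
      have h3 : C ((l : ZMod p) ^ e) * (X ^ j * (C ((l ^ 2 : ℕ) : ZMod p) + X * P1) ^ j *
          g.comp (X * (C ((l ^ 2 : ℕ) : ZMod p) + X * P1))) - C ((l : ZMod p)⁻¹) * (X ^ j * g) =
          X ^ j * (C ((l : ZMod p) ^ e) * ((C ((l ^ 2 : ℕ) : ZMod p) + X * P1) ^ j *
          g.comp (X * (C ((l ^ 2 : ℕ) : ZMod p) + X * P1))) - C ((l : ZMod p)⁻¹) * g) := by ring
      rw [h3, pow_succ]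
      refine mul_dvd_mul_left _ ?_
      rw [X_dvd_iff, coeff_zero_eq_eval_zero]
      simp only [eval_sub, eval_mul, eval_C, eval_pow, eval_add, eval_X, zero_mul, add_zero, eval_comp]
      have h4 : (l : ZMod p) ^ e * ((l ^ 2 : ℕ) : ZMod p) ^ j = (l : ZMod p)⁻¹ := by
        apply eq_inv_of_mul_eq_one_left
        push_cast
        rw [← pow_mul, ← hed, hj]
        ring
      linear_combination (eval 0 g) * h4
    obtain ⟨g', hg'⟩ := h2
    refine ⟨g', ?_⟩
    have hC : ∀ (a : ZMod p) (F : (ZMod p)[X]) (u : M), aeval δ (C a * F) u = a • aeval δ F u := by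
      intro a F u
      rw [map_mul, aeval_C, Module.End.mul_apply, Algebra.algebraMap_eq_smul_one, LinearMap.smul_apply,
        Module.End.one_apply]
    rw [← hg', map_sub, LinearMap.sub_apply, hC, hC, h1]
  let Ψ : L j →ₗ[ZMod p] L (j + 1) :=
    LinearMap.codRestrict (L (j + 1)) ((σ κ - (l : ZMod p)⁻¹ • (1 : End (ZMod p) M)) ∘ₗ (L j).subtype) (fun u => by
      exact hmaps u u.2)
  have hker := LinearMap.ker_ne_bot_of_finrank_lt (f := Ψ) (Submodule.finrank_lt_finrank_of_lt hLlt)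
  obtain ⟨u, hu, hu0⟩ := Submodule.exists_mem_ne_zero_of_ne_bot hker
  refine ⟨u, fun h => hu0 (Subtype.ext h), ?_⟩
  have h1 := congrArg Subtype.val (LinearMap.mem_ker.1 hu)
  have h2 : σ κ (u : M) - (l : ZMod p)⁻¹ • (u : M) = 0 := h1
  rw [sub_eq_zero.1 h2, smul_smul, mul_inv_cancel₀ hl, one_smul]

end Cfsg.Agent.H782.CX
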