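import Cfsg.Agent.H779.NPCRep

/-!
# Chief factors of a group of automorphisms of a p-group (helper782, block (W6) of S5267)
-/

set_option autoImplicit false

namespace Cfsg.Agent.H782.CX

open Subgroup Cfsg.Agent.H779.Core
open scoped commutatorElement

universe u

variable {X : Type u} [Group X] {p : ℕ} [hp : Fact p.Prime]

/-- `B`-invariant subgroups -/
def Inv (B : Subgroup (MulAut X)) (R : Subgroup X) : Prop := ∀ b ∈ B, ∀ e ∈ R, b e ∈ R

/-- a chief factor -/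
structure Chief (p : ℕ) (B : Subgroup (MulAut X)) (R R' : Subgroup X) : Prop where
  inv : Inv B R
  inv' : Inv B R'
  le : R' ≤ R
  comm : ∀ r ∈ R, ∀ e : X, ⁅r, e⁆ ∈ R'
  pow : ∀ r ∈ R, r ^ p ∈ R'
  max : ∀ Y : Subgroup X, Inv B Y → R' ≤ Y → Y ≤ R → Y = R' ∨ Y = R

theorem Inv.normal {B : Subgroup (MulAut X)} (hB : inn X ≤ B) {R : Subgroup X} (h : Inv B R) : R.Normal := by
  refine ⟨fun r hr g => ?_⟩
  have h1 := h (MulAut.conj g) (hB ⟨g, rfl⟩) r hr
  rwa [MulAut.conj_apply] at h1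

theorem Inv.sup {B : Subgroup (MulAut X)} {R S : Subgroup X} (hR : Inv B R) (hS : Inv B S) : Inv B (R ⊔ S) := by
  intro b hb e he
  have h1 : (R ⊔ S).map (b : X →* X) ≤ R ⊔ S := by
    rw [Subgroup.map_sup]
    refine sup_le_sup ?_ ?_
    · rintro _ ⟨r, hr, rfl⟩
      exact hR b hb r hr
    · rintro _ ⟨r, hr, rfl⟩
      exact hS b hb r hr
  exact h1 ⟨e, he, rfl⟩

theorem Inv.commTop {B : Subgroup (MulAut X)} {R : Subgroup X} (hR : Inv B R) : Inv B ⁅R, (⊤ : Subgroup X)⁆ := by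
  intro b hb e he
  have h1 : (⁅R, (⊤ : Subgroup X)⁆).map (b : X →* X) ≤ ⁅R, (⊤ : Subgroup X)⁆ := by
    rw [Subgroup.map_commutator]
    refine commutator_mono ?_ le_top
    rintro _ ⟨r, hr, rfl⟩
    exact hR b hb r hr
  exact h1 ⟨e, he, rfl⟩

theorem comm_sup_ne [Finite X] (hX : IsPGroup p X) {R R' : Subgroup X} (hR' : R'.Normal) (hlt : R' < R) :
    R' ⊔ ⁅R, (⊤ : Subgroup X)⁆ ≠ R := by
  intro heq
  have hnil : Group.IsNilpotent X := hX.isNilpotent
  have key : ∀ k : ℕ, R ≤ R' ⊔ (⊤ : Subgroup X).lowerCentralSeries k := by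
    intro k
    induction k with
    | zero => exact le_top.trans le_sup_right
    | succ k ih =>
      have h1 : ⁅R, (⊤ : Subgroup X)⁆ ≤ R' ⊔ (⊤ : Subgroup X).lowerCentralSeries (k + 1) := by
        rw [Subgroup.commutator_le]
        intro r hr e _
        obtain ⟨a, ha, g, hg, rfl⟩ := Subgroup.mem_sup_of_normal_left.1 (ih hr)
        have h2 : ⁅a * g, e⁆ = (a * ⁅g, e⁆ * a⁻¹) * ⁅a, e⁆ := by
          simp only [commutatorElement_def]
          group
        have hnn : (R' ⊔ (⊤ : Subgroup X).lowerCentralSeries (k + 1)).Normal := Subgroup.sup_normal _ _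
        rw [h2]
        refine mul_mem (hnn.conj_mem _ ((le_sup_right : _ ≤ R' ⊔ _) ?_) a) ((le_sup_left : R' ≤ _) ?_)
        · exact commutator_mem_commutator hg (Subgroup.mem_top e)
        · have h3 : ⁅a, e⁆ = a * (e * a⁻¹ * e⁻¹) := by rw [commutatorElement_def]; group
          rw [h3]
          exact mul_mem ha (hR'.conj_mem _ (inv_mem ha) e)
      calc R = R' ⊔ ⁅R, (⊤ : Subgroup X)⁆ := heq.symm
        _ ≤ R' ⊔ (⊤ : Subgroup X).lowerCentralSeries (k + 1) := sup_le le_sup_left h1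
  obtain ⟨k, hk⟩ := Subgroup.nilpotent_iff_lowerCentralSeries.1 hnil
  have h2 := key k
  rw [hk, sup_bot_eq] at h2
  exact hlt.not_ge h2

theorem exists_chief [Finite X] (hX : IsPGroup p X) {B : Subgroup (MulAut X)} (hB : inn X ≤ B)
    (Pr : Subgroup X → Prop) (htop : Pr ⊤) (hbot : ¬ Pr ⊥) :
    ∃ R R' : Subgroup X, Chief p B R R' ∧ Pr R ∧ ¬ Pr R' := by
  classical
  -- minimal `R`
  obtain ⟨R, ⟨hRi, hRP⟩, hRmin⟩ : ∃ R : Subgroup X, (Inv B R ∧ Pr R) ∧ ∀ Y, (Inv B Y ∧ Pr Y) → Y ≤ R → Y = R := by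
    obtain ⟨R, hR⟩ := (Set.toFinite {R : Subgroup X | Inv B R ∧ Pr R}).exists_minimal
      ⟨⊤, fun b _ e _ => Subgroup.mem_top _, htop⟩
    exact ⟨R, hR.1, fun Y hY hYR => le_antisymm hYR (hR.2 hY hYR)⟩
  have hRne : R ≠ ⊥ := fun h => hbot (h ▸ hRP)
  obtain ⟨R', ⟨hRi', hRlt⟩, hRmax⟩ : ∃ R' : Subgroup X, (Inv B R' ∧ R' < R) ∧ ∀ Y, (Inv B Y ∧ Y < R) → R' ≤ Y → Y = R' := by
    obtain ⟨R', hR'⟩ := (Set.toFinite {Y : Subgroup X | Inv B Y ∧ Y < R}).exists_maximal
      ⟨⊥, fun b _ e he => by rw [Subgroup.mem_bot] at he ⊢; rw [he, map_one], bot_lt_iff_ne_bot.2 hRne⟩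
    exact ⟨R', hR'.1, fun Y hY hYR => le_antisymm (hR'.2 hY hYR) hYR⟩
  have hmax : ∀ Y : Subgroup X, Inv B Y → R' ≤ Y → Y ≤ R → Y = R' ∨ Y = R := by
    intro Y hY h1 h2
    rcases eq_or_lt_of_le h2 with h3 | h3
    · exact Or.inr h3
    · exact Or.inl (hRmax Y ⟨hY, h3⟩ h1)
  have hn' := hRi'.normal hB
  have hn := hRi.normal hB
  have hcomm : ∀ r ∈ R, ∀ e : X, ⁅r, e⁆ ∈ R' := by
    have h1 := hmax (R' ⊔ ⁅R, (⊤ : Subgroup X)⁆) (hRi'.sup hRi.commTop) le_sup_left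
      (sup_le hRlt.le (Subgroup.commutator_le_left _ _))
    have h2 := h1.resolve_right (comm_sup_ne hX hn' hRlt)
    intro r hr e
    rw [← h2]
    exact (le_sup_right : _ ≤ R' ⊔ ⁅R, (⊤ : Subgroup X)⁆) (commutator_mem_commutator hr (Subgroup.mem_top e))
  refine ⟨R, R', ⟨hRi, hRi', hRlt.le, hcomm, ?_, hmax⟩, hRP, fun h => hRlt.ne (hRmin R' ⟨hRi', h⟩ hRlt.le)⟩
  -- exponent
  have hq : ∀ r s : X, r ∈ R → s ∈ R → ∀ k : ℕ, ((r * s) ^ k)⁻¹ * (r ^ k * s ^ k) ∈ R' := by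
    intro r s hr hs k
    have h1 : ∀ a b : X, a ∈ R → b ∈ R → (QuotientGroup.mk (a * b) : X ⧸ R') = QuotientGroup.mk (b * a) := by
      intro a b ha hb
      rw [QuotientGroup.eq]
      have h2 := hcomm b⁻¹ (inv_mem hb) a⁻¹
      rw [commutatorElement_def] at h2
      convert h2 using 1
      group
    rw [← QuotientGroup.eq]
    have h3 : Commute (QuotientGroup.mk r : X ⧸ R') (QuotientGroup.mk s) := by
      have h4 := h1 r s hr hs
      rw [QuotientGroup.mk_mul, QuotientGroup.mk_mul] at h4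
      exact h4
    rw [QuotientGroup.mk_pow, QuotientGroup.mk_mul, QuotientGroup.mk_mul, QuotientGroup.mk_pow, QuotientGroup.mk_pow]
    exact h3.mul_pow k
  let Y : Subgroup X :=
    { carrier := {r | r ∈ R ∧ r ^ p ∈ R'}
      one_mem' := ⟨one_mem _, by rw [one_pow]; exact one_mem _⟩
      mul_mem' := by
        rintro a b ⟨ha, ha'⟩ ⟨hb, hb'⟩
        refine ⟨mul_mem ha hb, ?_⟩
        have h1 := hq a b ha hb p
        have h2 : (a * b) ^ p = (a ^ p * b ^ p) * (((a * b) ^ p)⁻¹ * (a ^ p * b ^ p))⁻¹ := by group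
        rw [h2]
        exact mul_mem (mul_mem ha' hb') (inv_mem h1)
      inv_mem' := by
        rintro a ⟨ha, ha'⟩
        refine ⟨inv_mem ha, ?_⟩
        rw [inv_pow]
        exact inv_mem ha' }
  have hYi : Inv B Y := fun b hb e he => ⟨hRi b hb e he.1, by
    rw [← map_pow]
    exact hRi' b hb _ he.2⟩
  have hYle : R' ≤ Y := fun r hr => ⟨hRlt.le hr, pow_mem hr _⟩
  have hYle' : Y ≤ R := fun r hr => hr.1
  have hYne : Y ≠ R' := by
    intro heq
    obtain ⟨r, hr, hr'⟩ := SetLike.exists_of_lt hRlt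
    obtain ⟨k, hk⟩ := hX r
    have hex : ∃ k, r ^ p ^ k ∈ R' := ⟨k, by rw [hk]; exact one_mem _⟩
    have h1 := Nat.find_spec hex
    set k0 := Nat.find hex with hk0
    have hk0' : k0 ≠ 0 := by
      intro h
      rw [h, pow_zero, pow_one] at h1
      exact hr' h1
    obtain ⟨k1, hk1⟩ := Nat.exists_eq_succ_of_ne_zero hk0'
    have h2 : r ^ p ^ k1 ∉ R' := Nat.find_min hex (by omega)
    apply h2
    rw [← heq]
    refine ⟨pow_mem hr _, ?_⟩
    rw [← pow_mul, ← pow_succ, ← Nat.succ_eq_add_one, ← hk1]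
    exact h1
  intro r hr
  rw [← (hmax Y hYi hYle hYle').resolve_left hYne] at hr
  exact hr.2

/-- the representation on a section -/
theorem exists_rep {B : Subgroup (MulAut X)} {R R' : Subgroup X} (hRn : R'.Normal) (hR : Inv B R) (hR' : Inv B R')
    (hcom : ∀ r ∈ R, ∀ e : X, ⁅r, e⁆ ∈ R') (hpow : ∀ r ∈ R, r ^ p ∈ R') :
    ∃ (M : Type u) (_ : AddCommGroup M) (_ : Module (ZMod p) M)
      (σ : Representation (ZMod p) (B ⧸ (inn X).subgroupOf B) M) (π : R →* Multiplicative M),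
      Function.Surjective π ∧ (∀ e, π e = 1 ↔ (e : X) ∈ R') ∧
      ∀ (b : B) (e f : R), (f : X) = (b : MulAut X) e → σ (b : B ⧸ (inn X).subgroupOf B) (π e).toAdd = (π f).toAdd := by
  set N : Subgroup R := R'.subgroupOf R with hN
  have hNn : N.Normal := Subgroup.normal_subgroupOf
  have hmemN : ∀ v : R, v ∈ N ↔ (v : X) ∈ R' := fun v => Iff.rfl
  let ρ0 : B →* MulAut R := actSub B.subtype R (fun b e he => hR b b.2 e he)
  let ρ1 : B →* MulAut (R ⧸ N) := actQuot ρ0 N (fun b v hv => hR' b b.2 v hv)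
  have hρ1 : ∀ (a : B) (v : R), ρ1 a (v : R ⧸ N) = ((ρ0 a v : R) : R ⧸ N) := fun a v => rfl
  have hcomm : ∀ x y : R ⧸ N, x * y = y * x := by
    intro x y
    induction x using QuotientGroup.induction_on with
    | H x =>
    induction y using QuotientGroup.induction_on with
    | H y =>
      rw [← QuotientGroup.mk_mul, ← QuotientGroup.mk_mul, eq_comm, QuotientGroup.eq, hmemN]
      have h2 := hcom (x : X)⁻¹ (inv_mem x.2) (y : X)⁻¹
      have h3 : (((y * x)⁻¹ * (x * y) : R) : X) = ⁅(x : X)⁻¹, (y : X)⁻¹⁆ := by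
        rw [commutatorElement_def]
        simp only [Subgroup.coe_mul, Subgroup.coe_inv]
        group
      rw [h3]
      exact h2
  have hexp : ∀ x : R ⧸ N, x ^ p = 1 := by
    intro x
    induction x using QuotientGroup.induction_on with
    | H x =>
      rw [← QuotientGroup.mk_pow, QuotientGroup.eq_one_iff, hmemN]
      exact hpow x x.2
  have hIle : ∀ a : B, (a : MulAut X) ∈ inn X → ρ1 a = 1 := by
    rintro a ⟨w, hw⟩
    ext v
    induction v using QuotientGroup.induction_on with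
    | H v =>
      rw [hρ1, MulAut.one_apply, QuotientGroup.eq, hmemN]
      have h2 : (((ρ0 a v : R)⁻¹ * v : R) : X) = w * (v : X)⁻¹ * w⁻¹ * v := by
        change ((a : MulAut X) (v : X))⁻¹ * v = _
        rw [← hw, MulAut.conj_apply]
        group
      rw [h2]
      have h3 := hRn.conj_mem _ (hcom (v : X) v.2 w) (v : X)⁻¹
      rw [commutatorElement_def] at h3
      convert h3 using 1
      group
  let ρ : (B ⧸ (inn X).subgroupOf B) →* MulAut (R ⧸ N) := QuotientGroup.lift _ ρ1 (fun a ha => hIle a ha)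
  obtain ⟨M, i1, i2, ρ', π, hπ⟩ := exists_mod p hcomm hexp ρ
  refine ⟨M, i1, i2, ρ', π.toMonoidHom.comp (QuotientGroup.mk' N), ?_, ?_, ?_⟩
  · exact π.surjective.comp (QuotientGroup.mk'_surjective N)
  · intro e
    change π (e : R ⧸ N) = 1 ↔ _
    rw [MulEquiv.map_eq_one_iff, QuotientGroup.eq_one_iff, hmemN]
  · intro a e f hf
    have h1 : f = ρ0 a e := Subtype.ext hf
    subst h1
    exact hπ (a : B ⧸ (inn X).subgroupOf B) (e : R ⧸ N)

end Cfsg.Agent.H782.CX
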