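import Cfsg.Agent.H782.CX.Torus

/-!
# The strongly embedded subgroup of the exceptional configuration (helper782, block (W6) of S5267)
-/

set_option autoImplicit false
set_option linter.unusedSectionVars false

namespace Cfsg.Agent.H782.CX

open Subgroup Cfsg.Agent.H467.MaxClass Cfsg.Agent.H786 Cfsg.Agent.H779.Core
open scoped commutatorElement

universe u

theorem exists_exp' {p : ℕ} [hp : Fact p.Prime] {l : ℕ} (hl : (l : ZMod p) ≠ 0)
    (prim : ∀ m : ℕ, (l : ZMod p) ^ m = 1 → p - 1 ∣ m) {s : ZMod p} (hs : s ≠ 0) :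
    ∃ e : ℕ, s = (l : ZMod p) ^ e := by
  classical
  set u : (ZMod p)ˣ := Units.mk0 _ hl with hu
  have hord : orderOf u = p - 1 := by
    apply Nat.dvd_antisymm
    · rw [orderOf_dvd_iff_pow_eq_one]
      ext
      rw [Units.val_pow_eq_pow_val, hu, Units.val_mk0, ZMod.pow_card_sub_one_eq_one hl, Units.val_one]
    · apply prim
      have h1 := congrArg Units.val (pow_orderOf_eq_one u)
      rw [Units.val_pow_eq_pow_val, hu, Units.val_mk0, Units.val_one] at h1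
      exact h1
  have htop : Subgroup.zpowers u = ⊤ := by
    apply Subgroup.eq_top_of_card_eq
    rw [Nat.card_zpowers, hord, Nat.card_eq_fintype_card, ZMod.card_units_eq_totient, Nat.totient_prime hp.out]
  have hmem : Units.mk0 s hs ∈ Subgroup.zpowers u := by rw [htop]; exact Subgroup.mem_top _
  obtain ⟨e, he, heq⟩ := (IsOfFinOrder.mem_zpowers_iff_mem_range_orderOf (isOfFinOrder_of_finite u)).1 hmem |>
    Finset.mem_image.1
  refine ⟨e, ?_⟩
  have h1 := congrArg Units.val heq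
  rw [Units.val_pow_eq_pow_val, hu, Units.val_mk0, Units.val_mk0] at h1
  exact h1.symm

variable {P : Type u} [Group P] [Finite P] {p n a t l : ℕ} {W : ℕ → Subgroup P} [hW1 : (W 1).Normal]
  [hp : Fact p.Prime] {A : Subgroup (MulAut (W 1))} {E : Subgroup P} {B H : Subgroup (MulAut E)} {v z : P}
  {k : MulAut E}

/-- torus element with its weight -/
structure KD (n a l : ℕ) (W : ℕ → Subgroup P) (A : Subgroup (MulAut (W 1))) (H : Subgroup (MulAut E))
    (φ : ℕ → P → ZMod p) (δ : ℕ) (K : MulAut E) (g : MulAut (W 1)) (s : ZMod p) : Prop where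
  coord : Coord p n W φ
  all : ∀ a ∈ A, ∃ s, Wt n W φ δ a s
  KH : K ∈ H
  gA : g ∈ A
  ext : Ext g K
  wt : Wt n W φ δ g s
  ha : (l : ZMod p) * s ^ (δ + a) = 1
  hl : s ^ (2 * δ + (n - 1)) = (l : ZMod p)

theorem exists_KD (c : CfgX p n W A E B H) (d : XData p n W E B H a t l v z k) (hP : PClosed A)
    (hnab : ¬ ⁅W 1, W 1⁆ ≤ W (n - 1)) :
    ∃ (φ : ℕ → P → ZMod p) (δ : ℕ) (g : MulAut (W 1)) (s : ZMod p), KD n a l W A H φ δ k g s := by
  have h4 := c.mc.four_le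
  have h5 := c.five
  have h3 := d.three_le_t
  have hat := d.a_add_t
  have h1a := d.one_le_a
  obtain ⟨φ, hφ⟩ := exists_coord c.mc
  obtain ⟨δ, hδ⟩ := weights hP hφ c.mc (by omega) c.exc hnab
  have hall : ∀ a ∈ A, ∃ s, Wt n W φ δ a s := by
    intro a ha
    obtain ⟨s, h1, h2, h3⟩ := hδ a ha
    exact ⟨s, h1, h2, h3⟩
  obtain ⟨g, hg, hgk⟩ := c.ext k d.k_H
  obtain ⟨s, hs⟩ := hall g hg
  have hZn : n - 1 < n := by omega
  have hWn : W (n - 1 + 1) = ⊥ := by rw [Nat.sub_add_cancel (by omega)]; exact c.mc.bot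
  refine ⟨φ, δ, g, s, hφ, hall, d.k_H, hg, hgk, hs, ?_, ?_⟩
  · have h1 := d.k_V ⟨v, d.v_E⟩ ((le_sup_left : zpowers v ≤ zpowers v ⊔ W (n - 1)) (mem_zpowers v))
    have h2 : (((k ⟨v, d.v_E⟩) ^ l * (⟨v, d.v_E⟩ : E)⁻¹ : E) : P) = (ap g v) ^ l * v⁻¹ := by
      rw [Subgroup.coe_mul, Subgroup.coe_pow, ← hgk ⟨v, d.v_E⟩]
      rfl
    rw [h2] at h1
    have hgv : ap g v ∈ W a := aInv_iff.mp (hP.aInv c.mc a h1a) g hg v (v_W1 c d) d.v_mem
    have h6 : φ a ((ap g v) ^ l * v⁻¹) = 0 :=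
      (hφ.zero a (by omega) _ (mul_mem (pow_mem hgv l) (inv_mem d.v_mem))).2 (c.mc.antitone (by omega) h1)
    rw [hφ.mul a (by omega) _ (pow_mem hgv l) _ (inv_mem d.v_mem), hφ.pow (by omega) hgv, hφ.inv (by omega) d.v_mem,
      hs.low a h1a (by omega) v d.v_mem] at h6
    have h7 : φ a v ≠ 0 := fun h => d.v_not ((hφ.zero a (by omega) _ d.v_mem).1 h)
    have h8 : ((l : ZMod p) * s ^ (δ + a) - 1) * φ a v = 0 := by linear_combination h6
    exact sub_eq_zero.1 ((mul_eq_zero.1 h8).resolve_right h7)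
  · obtain ⟨w, hw, hw1⟩ := hφ.exists_eq_one c.mc hZn
    have h1 := d.k_Z ⟨w, Z_le_E c hw⟩ hw
    have h2 := hgk ⟨w, Z_le_E c hw⟩
    rw [h1] at h2
    change ap g w = w ^ l at h2
    have h6 := hs.top w hw
    rw [h2, hφ.pow hZn hw, hw1, mul_one, mul_one] at h6
    exact h6.symm

namespace KD

variable {φ : ℕ → P → ZMod p} {δ : ℕ} {K : MulAut E} {g : MulAut (W 1)} {s : ZMod p}

theorem l_ne (h : KD n a l W A H φ δ K g s) : (l : ZMod p) ≠ 0 := by
  rw [← h.hl]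
  exact pow_ne_zero _ h.wt.ne

/-- replacing `k` by `k ^ p` -/
theorem powp (c : CfgX p n W A E B H) (hP : PClosed A) (h : KD n a l W A H φ δ K g s) :
    KD n a l W A H φ δ (K ^ p) (g ^ p) s := by
  have h1 : Wt n W φ δ (g ^ p) s := by
    have h2 := h.wt.pow c.mc hP h.gA p
    rwa [ZMod.pow_card] at h2
  exact ⟨h.coord, h.all, pow_mem h.KH p, pow_mem h.gA p, h.ext.pow c.E_le p, h1, h.ha, h.hl⟩

/-- the elements of `H` -/
theorem gen (c : CfgX p n W A E B H) (prim : ∀ m : ℕ, (l : ZMod p) ^ m = 1 → p - 1 ∣ m) (hP : PClosed A)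
    (h : KD n a l W A H φ δ K g s) {x : MulAut E} (hx : x ∈ H) :
    ∃ (y : normalizer (E : Set P)) (m : ℕ), x = E.normalizerMonoidHom y * K ^ m := by
  obtain ⟨gx, hgx, hgx'⟩ := c.ext x hx
  obtain ⟨sx, hsx⟩ := h.all gx hgx
  obtain ⟨e, he⟩ := exists_exp' h.l_ne prim hsx.ne
  set m := (2 * δ + (n - 1)) * e with hm
  have hsm : sx = s ^ m := by rw [he, ← h.hl, ← pow_mul]
  have h1 : Wt n W φ δ (gx * (g ^ m)⁻¹) (sx * (s ^ m)⁻¹) :=
    hsx.mul c.mc hP (inv_mem (pow_mem h.gA m)) ((h.wt.pow c.mc hP h.gA m).inv c.mc hP (pow_mem h.gA m))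
  rw [hsm, mul_inv_cancel₀ (pow_ne_zero _ h.wt.ne)] at h1
  have hgx'' : Ext gx x := hgx'
  obtain ⟨y, hy⟩ := of_wt_one hP h.coord c.mc c.sylow c.E_le (mul_mem hgx (inv_mem (pow_mem h.gA m))) h1
    (hgx''.mul c.E_le ((h.ext.pow c.E_le m).inv c.E_le))
  exact ⟨y, m, by rw [← hy, inv_mul_cancel_right]⟩

theorem kq (c : CfgX p n W A E B H) (hP : PClosed A) (h : KD n a l W A H φ δ K g s) :
    ∃ y : normalizer (E : Set P), K ^ (p - 1) = E.normalizerMonoidHom y := by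
  have h1 := h.wt.pow c.mc hP h.gA (p - 1)
  rw [ZMod.pow_card_sub_one_eq_one h.wt.ne] at h1
  exact of_wt_one hP h.coord c.mc c.sylow c.E_le (pow_mem h.gA _) h1 (h.ext.pow c.E_le _)

/-- the action of `K` on `z` -/
theorem conj_z (c : CfgX p n W A E B H) (d : XData p n W E B H a t l v z k) (hP : PClosed A)
    (h : KD n a l W A H φ δ K g s) : ∃ (y : normalizer (E : Set P)) (i : ℕ),
      K * E.normalizerMonoidHom ⟨z, z_norm c d⟩ * K⁻¹ = E.normalizerMonoidHom y ∧ (z ^ i)⁻¹ * (y : P) ∈ E ∧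
      (i : ZMod p) = ((l ^ 2 : ℕ) : ZMod p) := by
  have h4 := c.mc.four_le
  have h5 := c.five
  have h3 := d.three_le_t
  have hat := d.a_add_t
  have h1a := d.one_le_a
  have hz1 := z_W1 c d
  set y0 := ap g z with hy0
  have hconj : ∀ e : E, (((K * E.normalizerMonoidHom ⟨z, z_norm c d⟩ * K⁻¹) e : E) : P) = y0 * e * y0⁻¹ := by
    intro e
    have h6 := h.ext (E.normalizerMonoidHom ⟨z, z_norm c d⟩ (K⁻¹ e))
    have h7 : (((K * E.normalizerMonoidHom ⟨z, z_norm c d⟩ * K⁻¹) e : E) : P) =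
        ((K (E.normalizerMonoidHom ⟨z, z_norm c d⟩ (K⁻¹ e)) : E) : P) := rfl
    rw [h7, ← h6, nmh_apply]
    have h8 : ((K⁻¹ e : E) : P) ∈ W 1 := c.E_le (K⁻¹ e).2
    change ap g (z * (K⁻¹ e : E) * z⁻¹) = _
    rw [ap_mul g (mul_mem hz1 h8) (inv_mem hz1), ap_mul g hz1 h8, ap_inv g hz1, h.ext (K⁻¹ e), MulAut.apply_inv_self]
  have hyn : y0 ∈ normalizer (E : Set P) := by
    rw [mem_normalizer_iff]
    intro e
    constructor
    · intro he
      have h6 := hconj ⟨e, he⟩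
      change _ = y0 * e * y0⁻¹ at h6
      rw [← h6]
      exact SetLike.coe_mem _
    · intro he
      have h6 := hconj ((K * E.normalizerMonoidHom ⟨z, z_norm c d⟩ * K⁻¹)⁻¹ ⟨_, he⟩)
      rw [MulAut.apply_inv_self] at h6
      change y0 * e * y0⁻¹ = _ at h6
      have h7 : e = (((K * E.normalizerMonoidHom ⟨z, z_norm c d⟩ * K⁻¹)⁻¹ ⟨_, he⟩ : E) : P) := by
        exact mul_left_cancel (mul_right_cancel h6)
      rw [h7]
      exact SetLike.coe_mem _
  obtain ⟨i, hi⟩ := exists_z c d hyn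
  refine ⟨⟨y0, hyn⟩, i, ?_, hi, ?_⟩
  · ext e
    rw [hconj, nmh_apply]
  · -- index `t - 1`
    have hφ := h.coord
    have ht1 : t - 1 < n := by omega
    have hg1 : y0 ∈ W (t - 1) := aInv_iff.mp (hP.aInv c.mc (t - 1) (by omega)) g h.gA z hz1 d.z_mem
    set e0 := (z ^ i)⁻¹ * y0 with he0
    have he0W : e0 ∈ W (t - 1) := mul_mem (inv_mem (pow_mem d.z_mem i)) hg1
    have hzt : z ∉ W (t - 1 + 1) := by
      rw [Nat.sub_add_cancel (by omega)]
      exact fun hh => d.z_not (d.Wt_le hh)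
    have he0t : e0 ∈ W (t - 1 + 1) := by
      by_contra hcon
      obtain ⟨j, hj⟩ := c.mc.exists_zpow ht1 he0W hcon d.z_mem
      apply d.z_not
      have h6 : z = e0 ^ j * ((e0 ^ j)⁻¹ * z) := by group
      rw [h6]
      rw [Nat.sub_add_cancel (by omega)] at hj
      exact mul_mem (zpow_mem hi j) (d.Wt_le hj)
    have h6 : φ (t - 1) y0 = (i : ZMod p) * φ (t - 1) z := by
      have h7 : y0 = z ^ i * e0 := by rw [he0]; group
      rw [h7, hφ.mul_right ht1 (pow_mem d.z_mem i) he0t (c.mc.le_succ _), hφ.pow ht1 d.z_mem]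
    rw [h.wt.low (t - 1) (by omega) (by omega) z d.z_mem] at h6
    have hφz : φ (t - 1) z ≠ 0 := fun hh => hzt ((hφ.zero _ ht1 _ d.z_mem).1 hh)
    have h7 : s ^ (δ + (t - 1)) = (i : ZMod p) := mul_right_cancel₀ hφz h6
    rw [← h7]
    push_cast
    have h8 : s ^ (δ + (t - 1)) * s ^ (δ + a) = (l : ZMod p) := by
      rw [← pow_add, ← h.hl]
      congr 1
      omega
    calc s ^ (δ + (t - 1)) = s ^ (δ + (t - 1)) * ((l : ZMod p) * s ^ (δ + a)) := by rw [h.ha, mul_one]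
      _ = (l : ZMod p) * (s ^ (δ + (t - 1)) * s ^ (δ + a)) := by ring
      _ = (l : ZMod p) ^ 2 := by rw [h8]; ring

end KD

section quot

/-- `B` modulo the inner automorphisms -/
abbrev GG (E : Subgroup P) (B : Subgroup (MulAut E)) : Type u := B ⧸ (inn E).subgroupOf B

/-- the class of an element -/
def cl (b : B) : GG E B := (b : B ⧸ (inn E).subgroupOf B)

theorem nmh_inn {e : P} (he : e ∈ E) (hn : e ∈ normalizer (E : Set P)) : E.normalizerMonoidHom ⟨e, hn⟩ ∈ inn E := by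
  refine ⟨⟨e, he⟩, ?_⟩
  ext w
  rfl

theorem inn_le (c : CfgX p n W A E B H) : inn E ≤ H := by
  rintro _ ⟨e, rfl⟩
  have h1 := c.conj_mem ⟨e, le_normalizer e.2⟩
  have h2 : (MulAut.conj e : MulAut E) = E.normalizerMonoidHom ⟨e, le_normalizer e.2⟩ := by
    ext w
    rfl
  rw [h2]
  exact h1

theorem cl_eq_one_iff (b : B) : cl b = 1 ↔ (b : MulAut E) ∈ inn E := by
  unfold cl
  rw [QuotientGroup.eq_one_iff]
  rfl

theorem mem_E_of_inn (c : CfgX p n W A E B H) {y : normalizer (E : Set P)} (h : E.normalizerMonoidHom y ∈ inn E) :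
    (y : P) ∈ E := by
  obtain ⟨e, he⟩ := h
  have h1 : (e : P)⁻¹ * (y : P) ∈ E := by
    apply c.cent
    intro w hw
    have h2 := congrArg (fun f : MulAut E => ((f ⟨w, hw⟩ : E) : P)) he
    simp only [nmh_apply] at h2
    have h3 : (e : P) * w * (e : P)⁻¹ = y * w * (y : P)⁻¹ := h2
    change (e : P)⁻¹ * y * w = w * ((e : P)⁻¹ * y)
    calc (e : P)⁻¹ * y * w = (e : P)⁻¹ * (y * w * (y : P)⁻¹) * y := by group
      _ = (e : P)⁻¹ * ((e : P) * w * (e : P)⁻¹) * y := by rw [h3]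
      _ = w * ((e : P)⁻¹ * y) := by group
  have h2 : (y : P) = e * ((e : P)⁻¹ * y) := by group
  rw [h2]
  exact mul_mem e.2 h1

/-- the image of `H` -/
def Hbar (E : Subgroup P) (B H : Subgroup (MulAut E)) : Subgroup (GG E B) :=
  (H.subgroupOf B).map (QuotientGroup.mk' _)

theorem cl_mem_Hbar (c : CfgX p n W A E B H) (b : B) : cl b ∈ Hbar E B H ↔ (b : MulAut E) ∈ H := by
  constructor
  · rintro ⟨h, hh, he⟩
    have h1 : (h : B)⁻¹ * b ∈ (inn E).subgroupOf B := QuotientGroup.eq.1 he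
    have h2 : (b : MulAut E) = h * ((h : MulAut E)⁻¹ * b) := by group
    rw [h2]
    exact mul_mem hh (inn_le c h1)
  · intro h
    exact ⟨b, h, rfl⟩

theorem cl_surj (g : GG E B) : ∃ b : B, cl b = g := QuotientGroup.mk_surjective g

theorem cl_mul (b b' : B) : cl (b * b') = cl b * cl b' := rfl

theorem cl_pow (b : B) (m : ℕ) : cl (b ^ m) = cl b ^ m := rfl

/-- the element of `B` induced by `y` -/
def bz (c : CfgX p n W A E B H) (y : normalizer (E : Set P)) : B :=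
  ⟨E.normalizerMonoidHom y, c.H_le (c.conj_mem y)⟩

theorem bz_mul (c : CfgX p n W A E B H) (y y' : normalizer (E : Set P)) : bz c (y * y') = bz c y * bz c y' :=
  Subtype.ext (map_mul _ _ _)

theorem bz_pow (c : CfgX p n W A E B H) (y : normalizer (E : Set P)) (m : ℕ) : bz c (y ^ m) = bz c y ^ m :=
  Subtype.ext (map_pow _ _ _)

theorem cl_bz_eq_one (c : CfgX p n W A E B H) (y : normalizer (E : Set P)) : cl (bz c y) = 1 ↔ (y : P) ∈ E := by
  rw [cl_eq_one_iff]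
  exact ⟨fun h => mem_E_of_inn c h, fun h => nmh_inn h y.2⟩

/-- classes of elements of `N_P(E)` -/
theorem cl_bz (c : CfgX p n W A E B H) (d : XData p n W E B H a t l v z k) {y : normalizer (E : Set P)} {i : ℕ}
    (hi : (z ^ i)⁻¹ * (y : P) ∈ E) : cl (bz c y) = cl (bz c ⟨z, z_norm c d⟩) ^ i := by
  have h1 : cl (bz c (((⟨z, z_norm c d⟩ : normalizer (E : Set P)) ^ i)⁻¹ * y)) = 1 := (cl_bz_eq_one c _).2 hi
  have h2 : y = (⟨z, z_norm c d⟩ : normalizer (E : Set P)) ^ i * (((⟨z, z_norm c d⟩ : normalizer (E : Set P)) ^ i)⁻¹ * y) := by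
    group
  conv_lhs => rw [h2]
  rw [bz_mul, cl_mul, h1, mul_one, bz_pow, cl_pow]

theorem orderOf_x (c : CfgX p n W A E B H) (d : XData p n W E B H a t l v z k) :
    orderOf (cl (bz c ⟨z, z_norm c d⟩)) = p := by
  apply orderOf_eq_prime
  · rw [← cl_pow, ← bz_pow, cl_bz_eq_one]
    exact zp_mem c d
  · rw [Ne, cl_bz_eq_one]
    exact d.z_not

/-- **the torus data** -/
theorem tor (c : CfgX p n W A E B H) (d : XData p n W E B H a t l v z k) (hP : PClosed A)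
    {φ : ℕ → P → ZMod p} {δ : ℕ} {g : MulAut (W 1)} {s : ZMod p} (h : KD n a l W A H φ δ k g s) :
    Tor p (Hbar E B H) (cl (bz c ⟨z, z_norm c d⟩)) (cl ⟨k ^ p, c.H_le (pow_mem d.k_H p)⟩ : GG E B) l := by
  set x := cl (bz c ⟨z, z_norm c d⟩) with hx
  have hox := orderOf_x c d
  rw [← hx] at hox
  have hxp : x ^ p = 1 := by rw [← hox, pow_orderOf_eq_one]
  have h' := h.powp c hP
  refine ⟨c.five, hox, ?_, ?_, ?_, ?_, ?_, d.l_prim⟩
  · rw [hx, cl_mem_Hbar c]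
    exact c.conj_mem _
  · intro g0 hg0 u hu hgu
    obtain ⟨b, rfl⟩ := cl_surj g0
    rw [cl_mem_Hbar c] at hg0
    obtain ⟨i, hi⟩ := mem_zpowers_iff.1 hu
    have h1 : u = cl (bz c ((⟨z, z_norm c d⟩ : normalizer (E : Set P)) ^ i)) := by
      rw [← hi, hx]
      have h2 : bz c ((⟨z, z_norm c d⟩ : normalizer (E : Set P)) ^ i) = bz c ⟨z, z_norm c d⟩ ^ i :=
        Subtype.ext (map_zpow _ _ _)
      rw [h2]
      rfl
    rw [h1] at hgu ⊢
    have h2 : (cl b)⁻¹ * cl (bz c ((⟨z, z_norm c d⟩ : normalizer (E : Set P)) ^ i)) * cl b =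
        cl (b⁻¹ * bz c ((⟨z, z_norm c d⟩ : normalizer (E : Set P)) ^ i) * b) := rfl
    rw [h2, cl_mem_Hbar c] at hgu
    rw [cl_bz_eq_one]
    exact c.emb b b.2 hg0 _ hgu
  · intro g0 hg0
    obtain ⟨b, rfl⟩ := cl_surj g0
    rw [cl_mem_Hbar c] at hg0
    obtain ⟨y, m, hym⟩ := h'.gen c d.l_prim hP hg0
    obtain ⟨i, hi⟩ := exists_z c d y.2
    refine ⟨i, m, ?_⟩
    have h1 : b = bz c y * (⟨k ^ p, c.H_le (pow_mem d.k_H p)⟩ : B) ^ m := Subtype.ext hym
    rw [h1, cl_mul, cl_bz c d hi, cl_pow]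
  · obtain ⟨y, hy⟩ := h.kq c hP
    obtain ⟨i, hi⟩ := exists_z c d y.2
    rw [← cl_pow]
    have h1 : (⟨k ^ p, c.H_le (pow_mem d.k_H p)⟩ : B) ^ (p - 1) = (bz c y) ^ p := by
      apply Subtype.ext
      change (k ^ p) ^ (p - 1) = (E.normalizerMonoidHom y) ^ p
      rw [← hy, ← pow_mul, ← pow_mul, mul_comm]
    rw [h1, cl_pow, cl_bz c d hi, ← pow_mul, mul_comm, pow_mul, ← hx, hxp, one_pow]
  · obtain ⟨y, i, hy, hi, hil⟩ := h'.conj_z c d hP
    have h1 : (cl ⟨k ^ p, c.H_le (pow_mem d.k_H p)⟩ : GG E B) * x * (cl ⟨k ^ p, c.H_le (pow_mem d.k_H p)⟩ : GG E B)⁻¹ =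
        cl (bz c y) := by
      have h2 : bz c y = (⟨k ^ p, c.H_le (pow_mem d.k_H p)⟩ : B) * bz c ⟨z, z_norm c d⟩ *
          (⟨k ^ p, c.H_le (pow_mem d.k_H p)⟩ : B)⁻¹ := Subtype.ext hy.symm
      rw [h2]
      rfl
    rw [h1, cl_bz c d hi, ← hx, pow_eq_pow_iff_modEq, hox]
    exact (ZMod.natCast_eq_natCast_iff _ _ _).1 hil

end quot

end Cfsg.Agent.H782.CX
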